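import Mathlib
import Cfsg.Prelude.Def_GeometricClasses

/-!
# Project BHRSP (helper94): the six symplectic rows S5787 S5790 S5805 S5823 S5844 S5868 from S5662

Definitions only: the refined class predicate (class 6 carries `2 ^ k = 2 * m`) and the statement of the
(refined) main theorem that the rows consume.
-/

set_option autoImplicit false

namespace Cfsg.Agent.Lib.Helper94.BHRSP

open Cfsg Cfsg.Geo
open scoped MatrixGroups Matrix Kronecker

/-- `Cfsg.Geo.InSymplecticPartialClass` with the class-6 disjunct strengthened by `2 ^ k = 2 * m`. -/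
def InSymplecticPartialClassR (m : ℕ) (F : Type*) [Field F] [Fintype F]
    (M : Subgroup (GL (Fin m ⊕ Fin m) F)) : Prop :=
  let f := sympForm m F
  let I := spGL m F
  (∃ W : Submodule F (Fin m ⊕ Fin m → F), W ≠ ⊥ ∧ IsTotallySingularFor f W ∧ M = subspaceStabilizer W ⊓ I) ∨
  (∃ W : Submodule F (Fin m ⊕ Fin m → F), W ≠ ⊥ ∧ IsNondegenerateOn f W ∧ Module.finrank F W < m ∧
      M = subspaceStabilizer W ⊓ I) ∨
  (∃ (t k : ℕ) (D : Fin t → Submodule F (Fin m ⊕ Fin m → F)), IsNondegenerateMDecomposition f k D ∧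
      M = decompositionStabilizer D ⊓ I) ∨
  (∃ (D : Fin 2 → Submodule F (Fin m ⊕ Fin m → F)), Odd (Fintype.card F) ∧ IsMDecomposition m D ∧
      (∀ i, IsTotallySingularFor f (D i)) ∧ M = decompositionStabilizer D ⊓ I) ∨
  (∃ (F₀ : Subfield F) (r : ℕ) (P : GL (Fin m ⊕ Fin m) F) (ζ : F), r.Prime ∧ Fintype.card F = Nat.card F₀ ^ r ∧ ζ ≠ 0 ∧
      IsFormRationalStructure f F₀ ζ P ∧ M = subfieldSubgroup F₀ P ⊓ I) ∨
  (∃ (R : Subgroup (GL (Fin m ⊕ Fin m) F)) (p k : ℕ), IsSymplecticTypeGroup 2 R ∧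
      ActsAbsolutelyIrreducibly (matrixSet R) ∧ R ≤ similarityGroup f ∧ p.Prime ∧ Odd p ∧ Fintype.card F = p ∧
      Nat.card R = 2 ^ (1 + 2 * k) ∧ Nat.card (Subgroup.center R) = 2 ∧ IsOfMinusType k R ∧
      2 ^ k = 2 * m ∧
      M = subgroupNormalizer R ⊓ I) ∨
  (∃ Q : (Fin m ⊕ Fin m → F) → F, ¬ Odd (Fintype.card F) ∧ IsNondegenerateQuadraticForm Q ∧
      (∀ u v, QuadraticMap.polar Q u v = f u v) ∧ M = quadSimilarityGroup Q ⊓ I)

/-- `Cfsg.Geo.InSymplecticClass` with the class-6 disjunct strengthened by `2 ^ k = 2 * m`. -/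
def InSymplecticClassR (m : ℕ) (F : Type*) [Field F] [Fintype F] (M : Subgroup (GL (Fin m ⊕ Fin m) F)) : Prop :=
  let f := sympForm m F
  let I := spGL m F
  InSymplecticPartialClassR m F M ∨
  (∃ (r : ℕ) (K : Subalgebra F (Matrix (Fin m ⊕ Fin m) (Fin m ⊕ Fin m) F)), r.Prime ∧ IsFieldSubalgebra r K ∧
      IsSelfAdjointFor f K ∧ (∀ k ∈ K, ∀ v, f (k *ᵥ v) v = 0) ∧ M = subalgebraNormalizer K ⊓ I) ∨
  (∃ K : Subalgebra F (Matrix (Fin m ⊕ Fin m) (Fin m ⊕ Fin m) F), Odd (Fintype.card F) ∧ IsFieldSubalgebra 2 K ∧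
      IsAdjointClosedFor f K ∧ ¬ IsSelfAdjointFor f K ∧ M = subalgebraNormalizer K ⊓ I) ∨
  (∃ (n₁ n₂ : ℕ) (e : (Fin m ⊕ Fin m) ≃ Fin n₁ × Fin n₂) (P : GL (Fin m ⊕ Fin m) F)
      (f₁ : (Fin n₁ → F) → (Fin n₁ → F) → F) (f₂ : (Fin n₂ → F) → (Fin n₂ → F) → F),
      Odd (Fintype.card F) ∧ 3 ≤ n₂ ∧ IsSymplecticForm f₁ ∧ IsSymmetricForm f₂ ∧
      IsTensorFormStructure id f f₁ f₂ e P ∧ M = tensorProductSubgroup n₁ n₂ e P ⊓ I) ∨
  (∃ (k t : ℕ) (e : (Fin m ⊕ Fin m) ≃ (Fin t → Fin k)) (P : GL (Fin m ⊕ Fin m) F) (f₁ : (Fin k → F) → (Fin k → F) → F),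
      Odd (Fintype.card F) ∧ Odd t ∧ 3 ≤ t ∧ ¬ (Fintype.card F = 3 ∧ k = 2) ∧ IsSymplecticForm f₁ ∧
      IsTensorPowerFormStructure id f f₁ e P ∧ M = tensorWreathSubgroup k t e P ⊓ I)

theorem InSymplecticPartialClassR.toPartial {m : ℕ} {F : Type*} [Field F] [Fintype F]
    {M : Subgroup (GL (Fin m ⊕ Fin m) F)} (h : InSymplecticPartialClassR m F M) :
    InSymplecticPartialClass m F M := by
  rcases h with h | h | h | h | h | h | h
  · exact Or.inl h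
  · exact Or.inr (Or.inl h)
  · exact Or.inr (Or.inr (Or.inl h))
  · exact Or.inr (Or.inr (Or.inr (Or.inl h)))
  · exact Or.inr (Or.inr (Or.inr (Or.inr (Or.inl h))))
  · obtain ⟨R, p, k, h1, h2, h3, h4, h5, h6, h7, h8, h9, -, h10⟩ := h
    exact Or.inr (Or.inr (Or.inr (Or.inr (Or.inr (Or.inl ⟨R, p, k, h1, h2, h3, h4, h5, h6, h7, h8, h9, h10⟩)))))
  · exact Or.inr (Or.inr (Or.inr (Or.inr (Or.inr (Or.inr h)))))

theorem InSymplecticClassR.toClass {m : ℕ} {F : Type*} [Field F] [Fintype F]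
    {M : Subgroup (GL (Fin m ⊕ Fin m) F)} (h : InSymplecticClassR m F M) : InSymplecticClass m F M := by
  rcases h with h | h | h | h | h
  · exact Or.inl h.toPartial
  · exact Or.inr (Or.inl h)
  · exact Or.inr (Or.inr (Or.inl h))
  · exact Or.inr (Or.inr (Or.inr (Or.inl h)))
  · exact Or.inr (Or.inr (Or.inr (Or.inr h)))

/-- The statement of the refined main theorem (Aschbacher for `Sp_2m(F)`), for one `m` and one field `F`:
the frozen statement of S5662 with `InSymplecticClassR` in place of `InSymplecticClass`.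
[ASCHSP delivers this; BHRSP consumes it as a hypothesis.] -/
def AschR (m : ℕ) (F : Type*) [Field F] [Fintype F] : Prop :=
  ∀ H : Subgroup (GL (Fin m ⊕ Fin m) F), H ≤ spGL m F →
    H ⊔ (scalars (Fin m ⊕ Fin m) F ⊓ spGL m F) ≠ spGL m F →
    (∃ M : Subgroup (GL (Fin m ⊕ Fin m) F), InSymplecticClassR m F M ∧ H ≤ M) ∨ InSymplecticResidualClass H

end Cfsg.Agent.Lib.Helper94.BHRSP
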