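import Mathlib
import Cfsg.Prelude.Def_GeometricClasses
import Cfsg.Agent.Lib.Helper94.SympBasic
import Cfsg.Agent.Lib.Helper94.SympBridge
import Cfsg.Agent.Lib.Helper94.BHRSP.Defs

/-!
# Project BHRSP (helper94): the KIT — basic facts about `spGL m F` in matrix language

* `isSymplecticForm_sympForm`, `sympForm_add_left` … : the form
* `exists_transvection` : symplectic transvections as elements of `spGL`
* `exists_spGL_mulVec_eq` : `spGL` is transitive on non-zero vectors
* `mem_spGL_iff` : membership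
-/

set_option autoImplicit false

namespace Cfsg.Agent.Lib.Helper94.BHRSP

open Cfsg Cfsg.Geo Cfsg.Agent.Lib.Helper94
open scoped MatrixGroups Matrix

variable {F : Type*} [Field F] {m : ℕ}

/-- **[KIT-MEM]** membership in `spGL` -/
theorem mem_spGL_iff (g : GL (Fin m ⊕ Fin m) F) :
    g ∈ spGL m F ↔ ∀ u v, sympForm m F ((g : Matrix (Fin m ⊕ Fin m) (Fin m ⊕ Fin m) F) *ᵥ u)
      ((g : Matrix (Fin m ⊕ Fin m) (Fin m ⊕ Fin m) F) *ᵥ v) = sympForm m F u v := Iff.rfl

theorem sympForm_add_left (x y v : Fin m ⊕ Fin m → F) :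
    sympForm m F (x + y) v = sympForm m F x v + sympForm m F y v := by
  simp only [← sympBilin_apply, map_add, LinearMap.add_apply]

theorem sympForm_smul_left (c : F) (x v : Fin m ⊕ Fin m → F) :
    sympForm m F (c • x) v = c * sympForm m F x v := by
  simp only [← sympBilin_apply, map_smul, LinearMap.smul_apply, smul_eq_mul]

theorem sympForm_add_right (v x y : Fin m ⊕ Fin m → F) :
    sympForm m F v (x + y) = sympForm m F v x + sympForm m F v y := by
  simp only [← sympBilin_apply, map_add]

theorem sympForm_smul_right (c : F) (v x : Fin m ⊕ Fin m → F) :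
    sympForm m F v (c • x) = c * sympForm m F v x := by
  simp only [← sympBilin_apply, map_smul, smul_eq_mul]

theorem sympForm_self (v : Fin m ⊕ Fin m → F) : sympForm m F v v = 0 := by
  rw [← sympBilin_apply]; exact (sympData_sympBilin m).alt v

theorem sympForm_skew (v w : Fin m ⊕ Fin m → F) : sympForm m F v w = - sympForm m F w v := by
  rw [← sympBilin_apply, ← sympBilin_apply]; exact (sympData_sympBilin m).skew v w

theorem exists_sympForm_ne_zero (v : Fin m ⊕ Fin m → F) (hv : v ≠ 0) :
    ∃ x, sympForm m F v x ≠ 0 := by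
  by_contra hcon
  push Not at hcon
  exact hv ((sympData_sympBilin m).nondeg v fun y => by rw [sympBilin_apply]; exact hcon y)

/-- **[KIT-FORM]** the standard form is a non-degenerate symplectic form -/
theorem isSymplecticForm_sympForm : IsSymplecticForm (sympForm m F) where
  bilinear :=
    { add_left := sympForm_add_left
      smul_left := sympForm_smul_left
      add_right := sympForm_add_right
      smul_right := sympForm_smul_right }
  skew := sympForm_skew
  alternating := sympForm_self
  nondegenerate := by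
    intro v hv
    obtain ⟨x, hx⟩ := exists_sympForm_ne_zero v hv
    refine ⟨⟨x, ?_⟩, ⟨x, hx⟩⟩
    rw [sympForm_skew]
    exact neg_ne_zero.mpr hx

/-- **[KIT-TV]** the symplectic transvection `x ↦ x + c f(x, v) v` as an element of `spGL` -/
theorem exists_transvection (v : Fin m ⊕ Fin m → F) (c : F) :
    ∃ g ∈ spGL m F, ∀ x, (g : Matrix (Fin m ⊕ Fin m) (Fin m ⊕ Fin m) F) *ᵥ x =
      x + (c * sympForm m F x v) • v := by
  have hd := sympData_sympBilin (F := F) m
  have hmem : hd.tv v c ∈ (spGL m F).map (glEquiv (Fin m ⊕ Fin m) F).toMonoidHom := by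
    rw [map_spGL]; exact hd.tv_mem_Sp v c
  obtain ⟨g, hg, hge⟩ := Subgroup.mem_map.mp hmem
  refine ⟨g, hg, fun x => ?_⟩
  have : glEquiv (Fin m ⊕ Fin m) F g x = hd.tv v c x := by
    have h2 : (glEquiv (Fin m ⊕ Fin m) F) g = hd.tv v c := hge
    rw [h2]
  rw [glEquiv_apply, SympData.tv_apply, sympBilin_apply] at this
  exact this

/-- **[KIT-TRANS]** `spGL` is transitive on non-zero vectors -/
theorem exists_spGL_mulVec_eq (u v : Fin m ⊕ Fin m → F) (hu : u ≠ 0) (hv : v ≠ 0) :
    ∃ g ∈ spGL m F, (g : Matrix (Fin m ⊕ Fin m) (Fin m ⊕ Fin m) F) *ᵥ u = v := by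
  have hd := sympData_sympBilin (F := F) m
  obtain ⟨x, hx⟩ := exists_sympForm_ne_zero u hu
  obtain ⟨y, hy⟩ := exists_sympForm_ne_zero v hv
  obtain ⟨e, he, heu⟩ := hd.TN_trans (U := ⊤) (w := u) (w' := v) trivial trivial
    ⟨x, trivial, by rw [sympBilin_apply]; exact hx⟩ ⟨y, trivial, by rw [sympBilin_apply]; exact hy⟩
  have hmem : e ∈ (spGL m F).map (glEquiv (Fin m ⊕ Fin m) F).toMonoidHom := by
    rw [map_spGL]; exact hd.TN_le_Sp ⊤ he
  obtain ⟨g, hg, hge⟩ := Subgroup.mem_map.mp hmem
  refine ⟨g, hg, ?_⟩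
  have h2 : (glEquiv (Fin m ⊕ Fin m) F) g = e := hge
  rw [← glEquiv_apply, h2, heu]

end Cfsg.Agent.Lib.Helper94.BHRSP
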