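import Mathlib
import Cfsg.Prelude.Def_GeometricClasses
import Cfsg.Agent.Lib.Helper94.BHRSP.Kit
import Cfsg.Agent.Lib.Helper76.SpmdSKer

/-!
# Project BHRSP (helper94): the KIT, part 2 — `spGL m F ≃* Matrix.symplecticGroup (Fin m) F`,
perfectness (S0269) and normal subgroups (S0270) in `spGL` language
-/

set_option autoImplicit false

namespace Cfsg.Agent.Lib.Helper94.BHRSP

open Cfsg Cfsg.Geo Cfsg.Agent.Lib.Helper94
open scoped MatrixGroups Matrix

variable {F : Type*} [Field F] {m : ℕ}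

theorem coe_mem_symplecticGroup (g : GL (Fin m ⊕ Fin m) F) (hg : g ∈ spGL m F) :
    (g : Matrix (Fin m ⊕ Fin m) (Fin m ⊕ Fin m) F) ∈ Matrix.symplecticGroup (Fin m) F := by
  rw [SymplecticGroup.mem_iff']
  have h1 : ∀ u v : Fin m ⊕ Fin m → F,
      Matrix.toBilin' ((g : Matrix (Fin m ⊕ Fin m) (Fin m ⊕ Fin m) F)ᵀ * Matrix.J (Fin m) F *
        (g : Matrix (Fin m ⊕ Fin m) (Fin m ⊕ Fin m) F)) u v =
      Matrix.toBilin' (Matrix.J (Fin m) F) u v := by
    intro u v
    have := hg u v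
    rw [Matrix.toBilin'_apply', Matrix.toBilin'_apply']
    show _ = Cfsg.sympForm m F u v
    rw [← this]
    show _ = ((g : Matrix (Fin m ⊕ Fin m) (Fin m ⊕ Fin m) F) *ᵥ u) ⬝ᵥ
      (Matrix.J (Fin m) F *ᵥ ((g : Matrix (Fin m ⊕ Fin m) (Fin m ⊕ Fin m) F) *ᵥ v))
    rw [← Matrix.mulVec_mulVec, ← Matrix.mulVec_mulVec, Matrix.dotProduct_mulVec,
      Matrix.vecMul_transpose]
  have h2 : Matrix.toBilin' ((g : Matrix (Fin m ⊕ Fin m) (Fin m ⊕ Fin m) F)ᵀ * Matrix.J (Fin m) F *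
      (g : Matrix (Fin m ⊕ Fin m) (Fin m ⊕ Fin m) F)) = Matrix.toBilin' (Matrix.J (Fin m) F) :=
    LinearMap.ext₂ h1
  exact Matrix.toBilin'.injective h2

theorem sympForm_mulVec_of_mem (A : Matrix (Fin m ⊕ Fin m) (Fin m ⊕ Fin m) F)
    (hA : A ∈ Matrix.symplecticGroup (Fin m) F) (u v : Fin m ⊕ Fin m → F) :
    sympForm m F (A *ᵥ u) (A *ᵥ v) = sympForm m F u v := by
  rw [SymplecticGroup.mem_iff'] at hA
  show (A *ᵥ u) ⬝ᵥ (Matrix.J (Fin m) F *ᵥ (A *ᵥ v)) = u ⬝ᵥ (Matrix.J (Fin m) F *ᵥ v)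
  calc (A *ᵥ u) ⬝ᵥ (Matrix.J (Fin m) F *ᵥ (A *ᵥ v))
      = (u ᵥ* Aᵀ) ⬝ᵥ (Matrix.J (Fin m) F *ᵥ (A *ᵥ v)) := by rw [Matrix.vecMul_transpose]
    _ = u ⬝ᵥ (Aᵀ *ᵥ (Matrix.J (Fin m) F *ᵥ (A *ᵥ v))) := by rw [← Matrix.dotProduct_mulVec]
    _ = u ⬝ᵥ ((Aᵀ * Matrix.J (Fin m) F * A) *ᵥ v) := by
        rw [Matrix.mulVec_mulVec, Matrix.mulVec_mulVec]
    _ = u ⬝ᵥ (Matrix.J (Fin m) F *ᵥ v) := by rw [hA]

/-- the map `symplecticGroup → GL` -/
def sympToGL (m : ℕ) (F : Type*) [Field F] :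
    Matrix.symplecticGroup (Fin m) F →* GL (Fin m ⊕ Fin m) F :=
  (Units.map (Matrix.symplecticGroup (Fin m) F).subtype).comp toUnits.toMonoidHom

theorem sympToGL_coe (g : Matrix.symplecticGroup (Fin m) F) :
    ((sympToGL m F g : GL (Fin m ⊕ Fin m) F) : Matrix (Fin m ⊕ Fin m) (Fin m ⊕ Fin m) F) = g.1 := rfl

theorem sympToGL_mem (g : Matrix.symplecticGroup (Fin m) F) : sympToGL m F g ∈ spGL m F := by
  intro u v
  exact sympForm_mulVec_of_mem g.1 g.2 u v

/-- **[KIT-ISO]** `spGL m F ≃* Matrix.symplecticGroup (Fin m) F`, the identity on matrices -/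
def spGLEquiv (m : ℕ) (F : Type*) [Field F] :
    ↥(spGL m F) ≃* ↥(Matrix.symplecticGroup (Fin m) F) where
  toFun g := ⟨(g.1 : Matrix (Fin m ⊕ Fin m) (Fin m ⊕ Fin m) F), coe_mem_symplecticGroup g.1 g.2⟩
  invFun g := ⟨sympToGL m F g, sympToGL_mem g⟩
  left_inv g := by
    apply Subtype.ext
    apply Units.ext
    rfl
  right_inv g := by
    apply Subtype.ext
    rfl
  map_mul' g h := by
    apply Subtype.ext
    rfl

theorem spGLEquiv_coe (g : ↥(spGL m F)) :
    ((spGLEquiv m F g : ↥(Matrix.symplecticGroup (Fin m) F)) :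
      Matrix (Fin m ⊕ Fin m) (Fin m ⊕ Fin m) F) = (g.1 : Matrix (Fin m ⊕ Fin m) (Fin m ⊕ Fin m) F) := rfl

/-- a matrix for which every non-zero vector is an eigenvector is scalar -/
theorem mem_scalars_of_forall_eigen {ι : Type} [Fintype ι] [DecidableEq ι] (x : GL ι F)
    (heig : ∀ v : ι → F, v ≠ 0 → ∃ c : F, (x : Matrix ι ι F) *ᵥ v = c • v) :
    x ∈ scalars ι F := by
  classical
  rw [mem_scalars_iff]
  have hs : ∀ i : ι, (Pi.single i (1 : F) : ι → F) ≠ 0 := by
    intro i h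
    have := congrFun h i
    simp at this
  choose c hc using fun i => heig (Pi.single i 1) (hs i)
  have hcc : ∀ i j, c i = c j := by
    intro i j
    by_cases hij : i = j
    · rw [hij]
    have hne : (Pi.single i (1 : F) + Pi.single j 1 : ι → F) ≠ 0 := by
      intro h
      have := congrFun h i
      simp [Pi.single_apply, hij] at this
    obtain ⟨d, hd⟩ := heig _ hne
    rw [Matrix.mulVec_add, hc i, hc j] at hd
    have h1 := congrFun hd i
    have h2 := congrFun hd j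
    simp [Pi.single_apply, hij, Ne.symm hij] at h1 h2
    rw [h1, h2]
  by_cases hemp : IsEmpty ι
  · refine ⟨1, ?_⟩
    ext i j
    exact (hemp.false i).elim
  rw [not_isEmpty_iff] at hemp
  obtain ⟨i₀⟩ := hemp
  have hx : (x : Matrix ι ι F) = c i₀ • (1 : Matrix ι ι F) := by
    ext k l
    have := congrFun (hc l) k
    rw [Matrix.mulVec_single_one] at this
    rw [Matrix.smul_apply, Matrix.one_apply, smul_eq_mul, ← hcc l i₀]
    simpa [Pi.single_apply, eq_comm] using this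
  have hc0 : c i₀ ≠ 0 := by
    intro h0
    rw [h0, zero_smul] at hx
    have h1 : (x : Matrix ι ι F) * ((x⁻¹ : GL ι F) : Matrix ι ι F) = 1 := by
      rw [← Units.val_mul, mul_inv_cancel, Units.val_one]
    rw [hx, zero_mul] at h1
    have := congrFun (congrFun h1 i₀) i₀
    simp at this
  exact ⟨Units.mk0 (c i₀) hc0, hx⟩

section Finite
variable [Fintype F]

/-- **[KIT-PERF]** `spGL` is perfect -/
theorem commutator_spGL_eq_top (hm : 2 ≤ m) (hex : ¬ (m = 2 ∧ Fintype.card F = 2)) :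
    commutator ↥(spGL m F) = ⊤ := by
  have hq : 2 ≤ Fintype.card F := Fintype.one_lt_card
  have h1 : commutator (Matrix.symplecticGroup (Fin m) F) = ⊤ := by
    apply Cfsg.Agent.S0269.result m
    rcases Nat.lt_or_ge m 3 with h | h
    · right; left
      have h2 : m = 2 := by omega
      refine ⟨h2, ?_⟩
      have : Fintype.card F ≠ 2 := fun h3 => hex ⟨h2, h3⟩
      omega
    · left; exact h
  have h2 : (commutator ↥(spGL m F)).map (spGLEquiv m F).toMonoidHom =
      commutator (Matrix.symplecticGroup (Fin m) F) := by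
    rw [commutator_def, commutator_def, Subgroup.map_commutator]
    congr 1 <;>
    · rw [← MonoidHom.range_eq_map]
      exact MonoidHom.range_eq_top.mpr (spGLEquiv m F).surjective
  rw [h1] at h2
  apply Subgroup.map_injective (f := (spGLEquiv m F).toMonoidHom) (spGLEquiv m F).injective
  rw [h2, ← MonoidHom.range_eq_map]
  exact (MonoidHom.range_eq_top.mpr (spGLEquiv m F).surjective).symm

/-- **[KIT-SIMPLE]** a subgroup of `spGL` normalised by `spGL` is scalar or everything -/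
theorem normal_le_scalars_or_eq (hm : 2 ≤ m) (hex : ¬ (m = 2 ∧ Fintype.card F = 2))
    (N : Subgroup (GL (Fin m ⊕ Fin m) F)) (hN : N ≤ spGL m F)
    (hnorm : ∀ g ∈ spGL m F, ∀ x ∈ N, g * x * g⁻¹ ∈ N) :
    N ≤ scalars (Fin m ⊕ Fin m) F ∨ N = spGL m F := by
  classical
  have hq : 2 ≤ Fintype.card F := Fintype.one_lt_card
  have hex' : m = 2 → 3 ≤ Fintype.card F := by
    intro h2
    have : Fintype.card F ≠ 2 := fun h3 => hex ⟨h2, h3⟩
    omega
  -- transport `N` to the Mathlib group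
  let N' : Subgroup ↥(Matrix.symplecticGroup (Fin m) F) :=
    (N.subgroupOf (spGL m F)).map (spGLEquiv m F).toMonoidHom
  have hN'normal : N'.Normal := by
    have h0 : (N.subgroupOf (spGL m F)).Normal := by
      constructor
      intro x hx g
      rw [Subgroup.mem_subgroupOf] at hx ⊢
      exact hnorm g.1 g.2 x.1 hx
    exact Subgroup.Normal.map h0 _ (spGLEquiv m F).surjective
  by_cases hc : ∀ x ∈ N', ∀ g, g * x = x * g
  · -- central: every element of N is scalar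
    left
    intro x hx
    have hxS : x ∈ spGL m F := hN hx
    -- x commutes with every element of spGL
    have hcomm : ∀ g ∈ spGL m F, g * x = x * g := by
      intro g hg
      have hx' : spGLEquiv m F ⟨x, hxS⟩ ∈ N' :=
        Subgroup.mem_map_of_mem _ (by rw [Subgroup.mem_subgroupOf]; exact hx)
      have := hc _ hx' (spGLEquiv m F ⟨g, hg⟩)
      rw [← map_mul, ← map_mul] at this
      have h2 := (spGLEquiv m F).injective this
      exact congrArg Subtype.val h2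
    -- every vector is an eigenvector
    have heig : ∀ v : Fin m ⊕ Fin m → F, v ≠ 0 →
        ∃ c : F, (x : Matrix (Fin m ⊕ Fin m) (Fin m ⊕ Fin m) F) *ᵥ v = c • v := by
      intro v hv
      obtain ⟨τ, hτ, hτv⟩ := exists_transvection (F := F) v 1
      obtain ⟨y, hy⟩ := exists_sympForm_ne_zero v hv
      have h1 := hcomm τ hτ
      have h2 : (τ : Matrix (Fin m ⊕ Fin m) (Fin m ⊕ Fin m) F) *ᵥ
          ((x : Matrix (Fin m ⊕ Fin m) (Fin m ⊕ Fin m) F) *ᵥ y) =
          (x : Matrix (Fin m ⊕ Fin m) (Fin m ⊕ Fin m) F) *ᵥ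
          ((τ : Matrix (Fin m ⊕ Fin m) (Fin m ⊕ Fin m) F) *ᵥ y) := by
        rw [Matrix.mulVec_mulVec, Matrix.mulVec_mulVec, ← Units.val_mul, ← Units.val_mul, h1]
      rw [hτv, hτv, Matrix.mulVec_add, Matrix.mulVec_smul, one_mul, one_mul] at h2
      have h3 : sympForm m F ((x : Matrix (Fin m ⊕ Fin m) (Fin m ⊕ Fin m) F) *ᵥ y) v • v =
          sympForm m F y v • ((x : Matrix (Fin m ⊕ Fin m) (Fin m ⊕ Fin m) F) *ᵥ v) :=
        add_left_cancel h2
      have hy' : sympForm m F y v ≠ 0 := by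
        rw [sympForm_skew]; exact neg_ne_zero.mpr hy
      refine ⟨(sympForm m F y v)⁻¹ * sympForm m F
        ((x : Matrix (Fin m ⊕ Fin m) (Fin m ⊕ Fin m) F) *ᵥ y) v, ?_⟩
      rw [mul_smul, h3, smul_smul, inv_mul_cancel₀ hy', one_smul]
    -- hence scalar
    exact mem_scalars_of_forall_eigen x heig
  · right
    push Not at hc
    obtain ⟨x, hx, g, hg⟩ := hc
    have htop : N' = ⊤ := Cfsg.Agent.Lib.Helper94.SPMD.SKer.normal_eq_top_h76 hm hex' N' x hx ⟨g, hg⟩
    apply le_antisymm hN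
    intro y hy
    have : spGLEquiv m F ⟨y, hy⟩ ∈ N' := by rw [htop]; exact Subgroup.mem_top _
    obtain ⟨z, hz, hzy⟩ := Subgroup.mem_map.mp this
    have hzy' : z = ⟨y, hy⟩ := (spGLEquiv m F).injective hzy
    rw [Subgroup.mem_subgroupOf, hzy'] at hz
    exact hz

end Finite

end Cfsg.Agent.Lib.Helper94.BHRSP
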