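import Mathlib
import Cfsg.Prelude.Def_GeometricClasses
import Cfsg.Agent.Lib.Helper94.BHRSP.Kit
import Cfsg.Agent.Lib.Helper94.BHRSP.Kit2

/-!
# Project BHRSP (helper94), phase 2: the explicit model of `2_-^(1+4) = Q_8 ∘ D_8 ≤ Sp_4(F)` (used for `|F| = 3`)

`V = F² ⊗ F²` with index set `Fin 2 ⊕ Fin 2`: the `Sum` tag (`inl = 0`, `inr = 1`) is the index of the FIRST (symplectic)
factor, the `Fin 2` component is the index of the SECOND (orthogonal) factor.  `tens a b = a ⊗ b`.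
`sympForm 2 F = ω ⊗ (dot product)`, `ω = !![0,-1;1,0]`, i.e. `Matrix.J (Fin 2) F = tens ω 1`.

* `tens`, `tens_mul`, `tens_one`, `tensGL`, `tensHom`
* `i0 = tens 1 J₂`, `K0 = F[i0]`
* `Q8` (generated by the elements of `SL_2` of trace 0), `O2` (orthogonal group of the dot product), `R0 = Q8 ⊗ O2`,
  `Rc P = P R0 P⁻¹`
-/

set_option autoImplicit false

namespace Cfsg.Agent.Lib.Helper94.BHRSP.Sp4

open Cfsg Cfsg.Geo
open scoped MatrixGroups Matrix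

variable {F : Type*} [Field F]

/-- `a ⊗ b` on `Fin 2 ⊕ Fin 2`. -/
def tens (a b : Matrix (Fin 2) (Fin 2) F) : Matrix (Fin 2 ⊕ Fin 2) (Fin 2 ⊕ Fin 2) F :=
  Matrix.fromBlocks (a 0 0 • b) (a 0 1 • b) (a 1 0 • b) (a 1 1 • b)

theorem tens_mul (a b a' b' : Matrix (Fin 2) (Fin 2) F) :
    tens a b * tens a' b' = tens (a * a') (b * b') := by
  unfold tens
  rw [Matrix.fromBlocks_multiply]
  simp only [Matrix.mul_apply, Fin.sum_univ_two, Matrix.smul_mul, Matrix.mul_smul, smul_smul, add_smul]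
  congr 1 <;> (congr 1 <;> (congr 1; ring))

theorem tens_one : tens (1 : Matrix (Fin 2) (Fin 2) F) 1 = 1 := by
  unfold tens
  simp [Matrix.fromBlocks_one]

theorem tens_smul_left (c : F) (a b : Matrix (Fin 2) (Fin 2) F) : tens (c • a) b = c • tens a b := by
  unfold tens
  simp [Matrix.fromBlocks_smul, smul_smul]

theorem tens_smul_right (c : F) (a b : Matrix (Fin 2) (Fin 2) F) : tens a (c • b) = c • tens a b := by
  unfold tens
  simp [Matrix.fromBlocks_smul, smul_smul, mul_comm]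

theorem tens_add_left (a a' b : Matrix (Fin 2) (Fin 2) F) : tens (a + a') b = tens a b + tens a' b := by
  unfold tens
  simp [Matrix.fromBlocks_add, add_smul]

theorem tens_add_right (a b b' : Matrix (Fin 2) (Fin 2) F) : tens a (b + b') = tens a b + tens a b' := by
  unfold tens
  simp [Matrix.fromBlocks_add]

theorem tens_neg_left (a b : Matrix (Fin 2) (Fin 2) F) : tens (-a) b = - tens a b := by
  unfold tens
  simp [Matrix.fromBlocks_neg]

theorem tens_neg_right (a b : Matrix (Fin 2) (Fin 2) F) : tens a (-b) = - tens a b := by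
  unfold tens
  simp [Matrix.fromBlocks_neg]

theorem tens_transpose (a b : Matrix (Fin 2) (Fin 2) F) : (tens a b)ᵀ = tens aᵀ bᵀ := by
  unfold tens
  simp [Matrix.fromBlocks_transpose]

/-- entries of `a ⊗ b` -/
theorem tens_apply_inl_inl (a b : Matrix (Fin 2) (Fin 2) F) (j k : Fin 2) :
    tens a b (Sum.inl j) (Sum.inl k) = a 0 0 * b j k := rfl
theorem tens_apply_inl_inr (a b : Matrix (Fin 2) (Fin 2) F) (j k : Fin 2) :
    tens a b (Sum.inl j) (Sum.inr k) = a 0 1 * b j k := rfl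
theorem tens_apply_inr_inl (a b : Matrix (Fin 2) (Fin 2) F) (j k : Fin 2) :
    tens a b (Sum.inr j) (Sum.inl k) = a 1 0 * b j k := rfl
theorem tens_apply_inr_inr (a b : Matrix (Fin 2) (Fin 2) F) (j k : Fin 2) :
    tens a b (Sum.inr j) (Sum.inr k) = a 1 1 * b j k := rfl

/-- `a ⊗ b` for invertible `a`, `b`. -/
def tensGL (a b : GL (Fin 2) F) : GL (Fin 2 ⊕ Fin 2) F where
  val := tens (a : Matrix (Fin 2) (Fin 2) F) (b : Matrix (Fin 2) (Fin 2) F)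
  inv := tens ((a⁻¹ : GL (Fin 2) F) : Matrix (Fin 2) (Fin 2) F) ((b⁻¹ : GL (Fin 2) F) : Matrix (Fin 2) (Fin 2) F)
  val_inv := by rw [tens_mul, ← Units.val_mul, ← Units.val_mul, mul_inv_cancel, mul_inv_cancel, Units.val_one, tens_one]
  inv_val := by rw [tens_mul, ← Units.val_mul, ← Units.val_mul, inv_mul_cancel, inv_mul_cancel, Units.val_one, tens_one]

theorem tensGL_val (a b : GL (Fin 2) F) :
    ((tensGL a b : GL (Fin 2 ⊕ Fin 2) F) : Matrix (Fin 2 ⊕ Fin 2) (Fin 2 ⊕ Fin 2) F) =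
      tens (a : Matrix (Fin 2) (Fin 2) F) (b : Matrix (Fin 2) (Fin 2) F) := rfl

theorem tensGL_mul (a b a' b' : GL (Fin 2) F) : tensGL a b * tensGL a' b' = tensGL (a * a') (b * b') := by
  apply Units.ext
  rw [Units.val_mul, tensGL_val, tensGL_val, tensGL_val, tens_mul, Units.val_mul, Units.val_mul]

theorem tensGL_one : tensGL (1 : GL (Fin 2) F) 1 = 1 := by
  apply Units.ext
  rw [tensGL_val, Units.val_one, tens_one, Units.val_one]

/-- `(a, b) ↦ a ⊗ b` as a monoid homomorphism. -/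
def tensHom : GL (Fin 2) F × GL (Fin 2) F →* GL (Fin 2 ⊕ Fin 2) F where
  toFun p := tensGL p.1 p.2
  map_one' := tensGL_one
  map_mul' p p' := by rw [Prod.fst_mul, Prod.snd_mul, tensGL_mul]

theorem tensHom_apply (p : GL (Fin 2) F × GL (Fin 2) F) : tensHom p = tensGL p.1 p.2 := rfl

/-- The matrix `ω = !![0,-1;1,0]` of the symplectic factor: `Matrix.J (Fin 2) F = ω ⊗ 1`. -/
def om : Matrix (Fin 2) (Fin 2) F := !![0, -1; 1, 0]

theorem J_eq_tens : Matrix.J (Fin 2) F = tens om 1 := by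
  unfold tens om Matrix.J
  simp

/-- `aᵀ ω a = det a • ω` for 2×2 matrices. -/
theorem transpose_om_mul (a : Matrix (Fin 2) (Fin 2) F) : aᵀ * om * a = a.det • om := by
  unfold om
  ext i j
  fin_cases i <;> fin_cases j <;>
    simp [Matrix.mul_apply, Fin.sum_univ_two, Matrix.det_fin_two] <;> ring

/-- **the form**: if `bᵀ b = μ`, then `a ⊗ b` multiplies `sympForm 2 F` by `det a * μ`. -/
theorem sympForm_tens (a b : Matrix (Fin 2) (Fin 2) F) (μ : F) (hb : bᵀ * b = μ • 1)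
    (u v : Fin 2 ⊕ Fin 2 → F) :
    sympForm 2 F (tens a b *ᵥ u) (tens a b *ᵥ v) = (a.det * μ) * sympForm 2 F u v := by
  have key : (tens a b)ᵀ * Matrix.J (Fin 2) F * tens a b = (a.det * μ) • Matrix.J (Fin 2) F := by
    rw [J_eq_tens, tens_transpose, tens_mul, tens_mul, transpose_om_mul, Matrix.mul_one, hb,
      tens_smul_left, tens_smul_right, smul_smul]
  unfold sympForm
  rw [Matrix.mulVec_mulVec, Matrix.dotProduct_mulVec, Matrix.vecMul_mulVec, ← Matrix.dotProduct_mulVec,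
    ← Matrix.mul_assoc, key, Matrix.smul_mulVec, dotProduct_smul, smul_eq_mul]

/-- the rotation `J₂ = !![0,1;-1,0]` and the reflection `T = !![1,0;0,-1]` of the orthogonal factor. -/
def J2 : Matrix (Fin 2) (Fin 2) F := !![0, 1; -1, 0]
def T2 : Matrix (Fin 2) (Fin 2) F := !![1, 0; 0, -1]
/-- generators of `Q_8` in `SL_2(3)` (`B2 * B2 = -1` needs characteristic 3). -/
def A2 : Matrix (Fin 2) (Fin 2) F := !![0, 1; -1, 0]
def B2 : Matrix (Fin 2) (Fin 2) F := !![1, 1; 1, -1]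

/-- `i₀ = 1 ⊗ J₂`, `i₀² = -1`, `i₀ ∈ Sp`. -/
def i0 : Matrix (Fin 2 ⊕ Fin 2) (Fin 2 ⊕ Fin 2) F := tens 1 J2

theorem J2_mul_J2 : (J2 : Matrix (Fin 2) (Fin 2) F) * J2 = -1 := by
  unfold J2
  ext i j
  fin_cases i <;> fin_cases j <;> simp [Matrix.mul_apply, Fin.sum_univ_two]

theorem i0_mul_i0 : (i0 : Matrix (Fin 2 ⊕ Fin 2) (Fin 2 ⊕ Fin 2) F) * i0 = -1 := by
  unfold i0
  rw [tens_mul, Matrix.mul_one, J2_mul_J2, tens_neg_right, tens_one]

/-- `K₀ = F[i₀] = {α + β i₀}`. -/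
def K0 : Subalgebra F (Matrix (Fin 2 ⊕ Fin 2) (Fin 2 ⊕ Fin 2) F) where
  carrier := {k | ∃ α β : F, k = α • (1 : Matrix (Fin 2 ⊕ Fin 2) (Fin 2 ⊕ Fin 2) F) + β • i0}
  mul_mem' := by
    rintro _ _ ⟨α, β, rfl⟩ ⟨α', β', rfl⟩
    refine ⟨α * α' - β * β', α * β' + β * α', ?_⟩
    simp only [add_mul, mul_add, Matrix.smul_mul, Matrix.mul_smul, Matrix.one_mul, Matrix.mul_one, i0_mul_i0,
      smul_smul, sub_smul, add_smul, smul_neg]
    abel_nf
    simp only [mul_comm]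
    abel
  add_mem' := by
    rintro _ _ ⟨α, β, rfl⟩ ⟨α', β', rfl⟩
    exact ⟨α + α', β + β', by simp only [add_smul]; abel⟩
  algebraMap_mem' r := ⟨r, 0, by simp [Algebra.algebraMap_eq_smul_one]⟩

theorem mem_K0_iff (k : Matrix (Fin 2 ⊕ Fin 2) (Fin 2 ⊕ Fin 2) F) :
    k ∈ (K0 : Subalgebra F _) ↔ ∃ α β : F, k = α • (1 : Matrix (Fin 2 ⊕ Fin 2) (Fin 2 ⊕ Fin 2) F) + β • i0 := Iff.rfl

/-- `Q_8`: generated by the elements of `SL_2(F)` of trace zero (for `|F| = 3`: the quaternion group `{±1, ±A, ±B, ±AB}`);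
normal in `GL_2(F)` by construction. -/
def Q8 : Subgroup (GL (Fin 2) F) :=
  Subgroup.closure {q | (q : Matrix (Fin 2) (Fin 2) F).det = 1 ∧ (q : Matrix (Fin 2) (Fin 2) F).trace = 0}

/-- `O_2`: the orthogonal group of the dot product (for `|F| = 3`: dihedral of order 8, `{±1, ±J₂, ±T, ±J₂T}`). -/
def O2 : Subgroup (GL (Fin 2) F) where
  carrier := {d | (d : Matrix (Fin 2) (Fin 2) F)ᵀ * (d : Matrix (Fin 2) (Fin 2) F) = 1}
  mul_mem' := by
    intro a b ha hb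
    change (a : Matrix (Fin 2) (Fin 2) F)ᵀ * (a : Matrix (Fin 2) (Fin 2) F) = 1 at ha
    change (b : Matrix (Fin 2) (Fin 2) F)ᵀ * (b : Matrix (Fin 2) (Fin 2) F) = 1 at hb
    change ((a * b : GL (Fin 2) F) : Matrix (Fin 2) (Fin 2) F)ᵀ * ((a * b : GL (Fin 2) F) : Matrix (Fin 2) (Fin 2) F) = 1
    rw [Units.val_mul, Matrix.transpose_mul, Matrix.mul_assoc, ← Matrix.mul_assoc (a : Matrix (Fin 2) (Fin 2) F)ᵀ, ha,
      Matrix.one_mul, hb]
  one_mem' := by simp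
  inv_mem' := by
    intro a ha
    change (a : Matrix (Fin 2) (Fin 2) F)ᵀ * (a : Matrix (Fin 2) (Fin 2) F) = 1 at ha
    change ((a⁻¹ : GL (Fin 2) F) : Matrix (Fin 2) (Fin 2) F)ᵀ * ((a⁻¹ : GL (Fin 2) F) : Matrix (Fin 2) (Fin 2) F) = 1
    have h1 : (a : Matrix (Fin 2) (Fin 2) F)ᵀ = ((a⁻¹ : GL (Fin 2) F) : Matrix (Fin 2) (Fin 2) F) := by
      have h2 := congrArg (· * ((a⁻¹ : GL (Fin 2) F) : Matrix (Fin 2) (Fin 2) F)) ha
      simp only [Matrix.mul_assoc, ← Units.val_mul, mul_inv_cancel, Units.val_one, Matrix.mul_one,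
        Matrix.one_mul] at h2
      exact h2
    rw [← h1, Matrix.transpose_transpose, h1, ← Units.val_mul, mul_inv_cancel, Units.val_one]

theorem mem_O2_iff (d : GL (Fin 2) F) :
    d ∈ (O2 : Subgroup (GL (Fin 2) F)) ↔ (d : Matrix (Fin 2) (Fin 2) F)ᵀ * (d : Matrix (Fin 2) (Fin 2) F) = 1 := Iff.rfl

/-- `R₀ = Q_8 ⊗ O_2` (for `|F| = 3`: `2_-^(1+4)`). -/
def R0 : Subgroup (GL (Fin 2 ⊕ Fin 2) F) := ((Q8 : Subgroup (GL (Fin 2) F)).prod O2).map tensHom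

/-- `R = P R₀ P⁻¹`. -/
def Rc (P : GL (Fin 2 ⊕ Fin 2) F) : Subgroup (GL (Fin 2 ⊕ Fin 2) F) := R0.map (MulAut.conj P).toMonoidHom

theorem mem_R0_iff (x : GL (Fin 2 ⊕ Fin 2) F) :
    x ∈ (R0 : Subgroup (GL (Fin 2 ⊕ Fin 2) F)) ↔ ∃ q ∈ (Q8 : Subgroup (GL (Fin 2) F)), ∃ d ∈ (O2 : Subgroup (GL (Fin 2) F)),
      x = tensGL q d := by
  unfold R0
  rw [Subgroup.mem_map]
  constructor
  · rintro ⟨⟨q, d⟩, hp, rfl⟩
    rw [Subgroup.mem_prod] at hp
    exact ⟨q, hp.1, d, hp.2, rfl⟩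
  · rintro ⟨q, hq, d, hd, rfl⟩
    exact ⟨(q, d), Subgroup.mem_prod.mpr ⟨hq, hd⟩, rfl⟩

theorem mem_Rc_iff (P x : GL (Fin 2 ⊕ Fin 2) F) :
    x ∈ Rc P ↔ ∃ q ∈ (Q8 : Subgroup (GL (Fin 2) F)), ∃ d ∈ (O2 : Subgroup (GL (Fin 2) F)),
      x = P * tensGL q d * P⁻¹ := by
  unfold Rc
  rw [Subgroup.mem_map]
  constructor
  · rintro ⟨y, hy, rfl⟩
    obtain ⟨q, hq, d, hd, rfl⟩ := (mem_R0_iff y).mp hy
    exact ⟨q, hq, d, hd, rfl⟩
  · rintro ⟨q, hq, d, hd, rfl⟩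
    exact ⟨tensGL q d, (mem_R0_iff _).mpr ⟨q, hq, d, hd, rfl⟩, rfl⟩

/-- `Q_8` is normal in `GL_2(F)`. -/
theorem conj_mem_Q8 (a q : GL (Fin 2) F) (hq : q ∈ (Q8 : Subgroup (GL (Fin 2) F))) : a * q * a⁻¹ ∈ (Q8 : Subgroup (GL (Fin 2) F)) := by
  have hmap : (Q8 : Subgroup (GL (Fin 2) F)).map (MulAut.conj a).toMonoidHom ≤ Q8 := by
    unfold Q8
    rw [MonoidHom.map_closure, Subgroup.closure_le]
    rintro _ ⟨x, ⟨hx1, hx2⟩, rfl⟩
    apply Subgroup.subset_closure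
    change ((a * x * a⁻¹ : GL (Fin 2) F) : Matrix (Fin 2) (Fin 2) F).det = 1 ∧
      ((a * x * a⁻¹ : GL (Fin 2) F) : Matrix (Fin 2) (Fin 2) F).trace = 0
    rw [Units.val_mul, Units.val_mul]
    constructor
    · rw [Matrix.det_mul, Matrix.det_mul, hx1, mul_one, ← Matrix.det_mul, ← Units.val_mul, mul_inv_cancel,
        Units.val_one, Matrix.det_one]
    · rw [Matrix.trace_mul_cycle, ← Units.val_mul, inv_mul_cancel, Units.val_one, Matrix.one_mul, hx2]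
  exact hmap ⟨q, hq, rfl⟩

end Cfsg.Agent.Lib.Helper94.BHRSP.Sp4
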