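import Mathlib
import Cfsg.Prelude.Def_GeometricClasses
import Cfsg.Agent.Lib.Helper94.BHRSP.Sp4Model

/-!
# Project BHRSP (helper94), phase 2: KIT for the model `Sp4Model` when `|F| = 3`

* `three_eq_zero`, `two_ne_zero3`, `eq_zero_or_one_or_neg_one`
* multiplication tables of `A2, B2, C2 = A2 * B2` (quaternion relations, characteristic 3) and of `J2, T2, S2 = J2 * T2` (dihedral relations)
* `mem_Q8_iff` : `Q8 = {±1, ±A2, ±B2, ±C2}`;  `mem_O2_iff'` : `O2 = {±1, ±J2, ±T2, ±S2}`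
* `A2gl, J2gl, T2gl, B2gl` : the generators as elements of `GL_2`
-/

set_option autoImplicit false

namespace Cfsg.Agent.Lib.Helper94.BHRSP.Sp4

open Cfsg Cfsg.Geo
open scoped MatrixGroups Matrix

variable {F : Type*} [Field F]

section basics
variable [Fintype F]

theorem three_eq_zero (hq : Fintype.card F = 3) : (3 : F) = 0 := by
  have := FiniteField.cast_card_eq_zero F
  rw [hq] at this
  exact_mod_cast this

theorem eq_zero_or_one_or_neg_one (hq : Fintype.card F = 3) (x : F) : x = 0 ∨ x = 1 ∨ x = -1 := by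
  have h := FiniteField.pow_card x
  rw [hq] at h
  have h2 : x * (x - 1) * (x + 1) = 0 := by ring_nf; rw [h]; ring
  rcases mul_eq_zero.mp h2 with h3 | h3
  · rcases mul_eq_zero.mp h3 with h4 | h4
    · exact Or.inl h4
    · exact Or.inr (Or.inl (sub_eq_zero.mp h4))
  · exact Or.inr (Or.inr (eq_neg_of_add_eq_zero_left h3))

theorem two_ne_zero3 (hq : Fintype.card F = 3) : (2 : F) ≠ 0 := by
  intro h
  have h3 := three_eq_zero hq
  have : (1 : F) = 0 := by linear_combination h3 - h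
  exact one_ne_zero this

end basics

/-- `C2 = A2 * B2`, `S2 = J2 * T2`. -/
def C2 : Matrix (Fin 2) (Fin 2) F := !![1, -1; -1, -1]
def S2 : Matrix (Fin 2) (Fin 2) F := !![0, -1; -1, 0]

/-! ### the quaternion relations (`h3 : (3 : F) = 0`) -/

theorem A2_mul_A2 : (A2 : Matrix (Fin 2) (Fin 2) F) * A2 = -1 := by
  unfold A2; ext i j; fin_cases i <;> fin_cases j <;> simp [Matrix.mul_apply, Fin.sum_univ_two]

theorem A2_mul_B2 : (A2 : Matrix (Fin 2) (Fin 2) F) * B2 = C2 := by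
  unfold A2 B2 C2; ext i j; fin_cases i <;> fin_cases j <;> simp [Matrix.mul_apply, Fin.sum_univ_two]

theorem B2_mul_A2 : (B2 : Matrix (Fin 2) (Fin 2) F) * A2 = -C2 := by
  unfold A2 B2 C2; ext i j; fin_cases i <;> fin_cases j <;> simp [Matrix.mul_apply, Fin.sum_univ_two]

theorem B2_mul_B2 (h3 : (3 : F) = 0) : (B2 : Matrix (Fin 2) (Fin 2) F) * B2 = -1 := by
  have h2 : (1 : F) + 1 = -1 := by linear_combination h3
  unfold B2; ext i j; fin_cases i <;> fin_cases j <;> simp [Matrix.mul_apply, Fin.sum_univ_two, h2]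

theorem C2_mul_C2 (h3 : (3 : F) = 0) : (C2 : Matrix (Fin 2) (Fin 2) F) * C2 = -1 := by
  have h2 : (1 : F) + 1 = -1 := by linear_combination h3
  unfold C2; ext i j; fin_cases i <;> fin_cases j <;> simp [Matrix.mul_apply, Fin.sum_univ_two, h2]

theorem B2_mul_C2 (h3 : (3 : F) = 0) : (B2 : Matrix (Fin 2) (Fin 2) F) * C2 = A2 := by
  rw [← A2_mul_B2, ← Matrix.mul_assoc, B2_mul_A2, ← A2_mul_B2, Matrix.neg_mul, Matrix.mul_assoc, B2_mul_B2 h3]
  simp

theorem C2_mul_B2 (h3 : (3 : F) = 0) : (C2 : Matrix (Fin 2) (Fin 2) F) * B2 = -A2 := by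
  rw [← A2_mul_B2, Matrix.mul_assoc, B2_mul_B2 h3]; simp

theorem C2_mul_A2 : (C2 : Matrix (Fin 2) (Fin 2) F) * A2 = B2 := by
  rw [← A2_mul_B2, Matrix.mul_assoc, B2_mul_A2, ← A2_mul_B2, Matrix.mul_neg, ← Matrix.mul_assoc, A2_mul_A2]; simp

theorem A2_mul_C2 : (A2 : Matrix (Fin 2) (Fin 2) F) * C2 = -B2 := by
  rw [← A2_mul_B2, ← Matrix.mul_assoc, A2_mul_A2]; simp

/-! ### the dihedral relations -/

theorem T2_mul_T2' : (T2 : Matrix (Fin 2) (Fin 2) F) * T2 = 1 := by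
  unfold T2; ext i j; fin_cases i <;> fin_cases j <;> simp [Matrix.mul_apply, Fin.sum_univ_two]

theorem J2_mul_T2 : (J2 : Matrix (Fin 2) (Fin 2) F) * T2 = S2 := by
  unfold J2 T2 S2; ext i j; fin_cases i <;> fin_cases j <;> simp [Matrix.mul_apply, Fin.sum_univ_two]

theorem T2_mul_J2' : (T2 : Matrix (Fin 2) (Fin 2) F) * J2 = -S2 := by
  unfold J2 T2 S2; ext i j; fin_cases i <;> fin_cases j <;> simp [Matrix.mul_apply, Fin.sum_univ_two]

theorem S2_mul_S2 : (S2 : Matrix (Fin 2) (Fin 2) F) * S2 = 1 := by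
  unfold S2; ext i j; fin_cases i <;> fin_cases j <;> simp [Matrix.mul_apply, Fin.sum_univ_two]

theorem T2_mul_S2 : (T2 : Matrix (Fin 2) (Fin 2) F) * S2 = -J2 := by
  rw [← J2_mul_T2, ← Matrix.mul_assoc, T2_mul_J2', ← J2_mul_T2, Matrix.neg_mul, Matrix.mul_assoc, T2_mul_T2']; simp

theorem S2_mul_T2 : (S2 : Matrix (Fin 2) (Fin 2) F) * T2 = J2 := by
  rw [← J2_mul_T2, Matrix.mul_assoc, T2_mul_T2']; simp

theorem S2_mul_J2 : (S2 : Matrix (Fin 2) (Fin 2) F) * J2 = T2 := by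
  rw [← J2_mul_T2, Matrix.mul_assoc, T2_mul_J2', ← J2_mul_T2, Matrix.mul_neg, ← Matrix.mul_assoc, J2_mul_J2]; simp

theorem J2_mul_S2 : (J2 : Matrix (Fin 2) (Fin 2) F) * S2 = -T2 := by
  rw [← J2_mul_T2, ← Matrix.mul_assoc, J2_mul_J2]; simp

/-! ### the generators as elements of `GL_2` -/

def A2gl : GL (Fin 2) F := ⟨A2, -A2, by rw [Matrix.mul_neg, A2_mul_A2, neg_neg], by rw [Matrix.neg_mul, A2_mul_A2, neg_neg]⟩
def J2gl : GL (Fin 2) F := ⟨J2, -J2, by rw [Matrix.mul_neg, J2_mul_J2, neg_neg], by rw [Matrix.neg_mul, J2_mul_J2, neg_neg]⟩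
def T2gl' : GL (Fin 2) F := ⟨T2, T2, T2_mul_T2', T2_mul_T2'⟩
def B2gl (h3 : (3 : F) = 0) : GL (Fin 2) F :=
  ⟨B2, -B2, by rw [Matrix.mul_neg, B2_mul_B2 h3, neg_neg], by rw [Matrix.neg_mul, B2_mul_B2 h3, neg_neg]⟩

theorem A2gl_val : ((A2gl : GL (Fin 2) F) : Matrix (Fin 2) (Fin 2) F) = A2 := rfl
theorem J2gl_val : ((J2gl : GL (Fin 2) F) : Matrix (Fin 2) (Fin 2) F) = J2 := rfl
theorem T2gl'_val : ((T2gl' : GL (Fin 2) F) : Matrix (Fin 2) (Fin 2) F) = T2 := rfl
theorem B2gl_val (h3 : (3 : F) = 0) : ((B2gl h3 : GL (Fin 2) F) : Matrix (Fin 2) (Fin 2) F) = B2 := rfl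

/-! ### the enumeration of `Q8` -/

/-- the eight matrices of `Q_8`. -/
def IsQ8Mat (M : Matrix (Fin 2) (Fin 2) F) : Prop :=
  M = 1 ∨ M = -1 ∨ M = A2 ∨ M = -A2 ∨ M = B2 ∨ M = -B2 ∨ M = C2 ∨ M = -C2

theorem isQ8Mat_mul (h3 : (3 : F) = 0) (M N : Matrix (Fin 2) (Fin 2) F) (hM : IsQ8Mat M) (hN : IsQ8Mat N) :
    IsQ8Mat (M * N) := by
  unfold IsQ8Mat at hM hN ⊢
  rcases hM with rfl | rfl | rfl | rfl | rfl | rfl | rfl | rfl <;>
  rcases hN with rfl | rfl | rfl | rfl | rfl | rfl | rfl | rfl <;>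
  simp [A2_mul_A2, A2_mul_B2, B2_mul_A2, B2_mul_B2 h3, C2_mul_C2 h3, B2_mul_C2 h3, C2_mul_B2 h3, C2_mul_A2, A2_mul_C2]

theorem isQ8Mat_neg (M : Matrix (Fin 2) (Fin 2) F) (hM : IsQ8Mat M) : IsQ8Mat (-M) := by
  unfold IsQ8Mat at hM ⊢
  rcases hM with rfl | rfl | rfl | rfl | rfl | rfl | rfl | rfl <;> simp

theorem isQ8Mat_sq (h3 : (3 : F) = 0) (M : Matrix (Fin 2) (Fin 2) F) (hM : IsQ8Mat M) : M * M = 1 ∨ M * M = -1 := by
  unfold IsQ8Mat at hM
  rcases hM with rfl | rfl | rfl | rfl | rfl | rfl | rfl | rfl <;>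
  simp [A2_mul_A2, B2_mul_B2 h3, C2_mul_C2 h3]


/-- a matrix of determinant 1 and trace 0 over the field with 3 elements is one of `±A2, ±B2, ±C2`. -/
theorem isQ8Mat_of_det_trace [Fintype F] (hq : Fintype.card F = 3) (M : Matrix (Fin 2) (Fin 2) F)
    (hdet : M.det = 1) (htr : M.trace = 0) : IsQ8Mat M := by
  have h2 := two_ne_zero3 hq
  have h3 := three_eq_zero hq
  have h2' : (1 : F) + 1 ≠ 0 := by rw [one_add_one_eq_two]; exact h2
  rw [Matrix.det_fin_two] at hdet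
  rw [Matrix.trace_fin_two] at htr
  have hM := Matrix.eta_fin_two M
  have hw : M 1 1 = - M 0 0 := eq_neg_of_add_eq_zero_right htr
  rw [hw] at hdet hM
  unfold IsQ8Mat A2 B2 C2
  rw [hM]
  rcases eq_zero_or_one_or_neg_one hq (M 0 0) with hx | hx | hx <;>
  rcases eq_zero_or_one_or_neg_one hq (M 0 1) with hy | hy | hy <;>
  rcases eq_zero_or_one_or_neg_one hq (M 1 0) with hz | hz | hz <;>
  rw [hx, hy, hz] at hdet ⊢ <;>
  first
  | (exfalso; revert hdet; norm_num; done)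
  | (exfalso; have : (2 : F) = 0 := by linear_combination -hdet
     exact h2 this)
  | simp

theorem isQ8Mat_of_mem_Q8 [Fintype F] (hq : Fintype.card F = 3) (q : GL (Fin 2) F)
    (hmem : q ∈ (Q8 : Subgroup (GL (Fin 2) F))) : IsQ8Mat (q : Matrix (Fin 2) (Fin 2) F) := by
  have h3 := three_eq_zero hq
  unfold Q8 at hmem
  induction hmem using Subgroup.closure_induction with
  | mem x hx => exact isQ8Mat_of_det_trace hq _ hx.1 hx.2
  | one => left; rfl
  | mul x y _ _ hx hy => rw [Units.val_mul]; exact isQ8Mat_mul h3 _ _ hx hy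
  | inv x _ hx =>
    -- `x⁻¹ = ± x` or `x`
    have hxx := isQ8Mat_sq h3 _ hx
    rcases hxx with h | h
    · have : ((x⁻¹ : GL (Fin 2) F) : Matrix (Fin 2) (Fin 2) F) = (x : Matrix (Fin 2) (Fin 2) F) := by
        calc ((x⁻¹ : GL (Fin 2) F) : Matrix (Fin 2) (Fin 2) F)
            = ((x⁻¹ : GL (Fin 2) F) : Matrix (Fin 2) (Fin 2) F) * ((x : Matrix (Fin 2) (Fin 2) F) * (x : Matrix (Fin 2) (Fin 2) F)) := by
              rw [h, Matrix.mul_one]
          _ = (x : Matrix (Fin 2) (Fin 2) F) := by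
              rw [← Matrix.mul_assoc, ← Units.val_mul, inv_mul_cancel, Units.val_one, Matrix.one_mul]
      rw [this]; exact hx
    · have : ((x⁻¹ : GL (Fin 2) F) : Matrix (Fin 2) (Fin 2) F) = - (x : Matrix (Fin 2) (Fin 2) F) := by
        calc ((x⁻¹ : GL (Fin 2) F) : Matrix (Fin 2) (Fin 2) F)
            = - (((x⁻¹ : GL (Fin 2) F) : Matrix (Fin 2) (Fin 2) F) * ((x : Matrix (Fin 2) (Fin 2) F) * (x : Matrix (Fin 2) (Fin 2) F))) := by
              rw [h, Matrix.mul_neg, Matrix.mul_one, neg_neg]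
          _ = - (x : Matrix (Fin 2) (Fin 2) F) := by
              rw [← Matrix.mul_assoc, ← Units.val_mul, inv_mul_cancel, Units.val_one, Matrix.one_mul]
      rw [this]; exact isQ8Mat_neg _ hx

theorem det_A2 : (A2 : Matrix (Fin 2) (Fin 2) F).det = 1 := by unfold A2; simp [Matrix.det_fin_two]
theorem trace_A2 : (A2 : Matrix (Fin 2) (Fin 2) F).trace = 0 := by unfold A2; simp [Matrix.trace_fin_two]
theorem det_B2 (h3 : (3 : F) = 0) : (B2 : Matrix (Fin 2) (Fin 2) F).det = 1 := by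
  unfold B2; simp [Matrix.det_fin_two]; linear_combination -h3
theorem trace_B2 : (B2 : Matrix (Fin 2) (Fin 2) F).trace = 0 := by unfold B2; simp [Matrix.trace_fin_two]
theorem det_C2 (h3 : (3 : F) = 0) : (C2 : Matrix (Fin 2) (Fin 2) F).det = 1 := by
  unfold C2; simp [Matrix.det_fin_two]; linear_combination -h3
theorem trace_C2 : (C2 : Matrix (Fin 2) (Fin 2) F).trace = 0 := by unfold C2; simp [Matrix.trace_fin_two]

theorem mem_Q8_of_det_trace (q : GL (Fin 2) F) (hdet : (q : Matrix (Fin 2) (Fin 2) F).det = 1)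
    (htr : (q : Matrix (Fin 2) (Fin 2) F).trace = 0) : q ∈ (Q8 : Subgroup (GL (Fin 2) F)) :=
  Subgroup.subset_closure ⟨hdet, htr⟩

theorem neg_one_mem_Q8 : (-1 : GL (Fin 2) F) ∈ (Q8 : Subgroup (GL (Fin 2) F)) := by
  have hA : (A2gl : GL (Fin 2) F) ∈ (Q8 : Subgroup (GL (Fin 2) F)) := mem_Q8_of_det_trace _ det_A2 trace_A2
  have : (-1 : GL (Fin 2) F) = A2gl * A2gl := by
    apply Units.ext
    rw [Units.val_mul, A2gl_val, A2_mul_A2]
    simp
  rw [this]
  exact Subgroup.mul_mem _ hA hA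

/-- **enumeration of `Q8`** for `|F| = 3`. -/
theorem mem_Q8_iff [Fintype F] (hq : Fintype.card F = 3) (q : GL (Fin 2) F) :
    q ∈ (Q8 : Subgroup (GL (Fin 2) F)) ↔ IsQ8Mat (q : Matrix (Fin 2) (Fin 2) F) := by
  have h3 := three_eq_zero hq
  refine ⟨isQ8Mat_of_mem_Q8 hq q, ?_⟩
  intro h
  have hneg : ∀ q' : GL (Fin 2) F, q' ∈ (Q8 : Subgroup (GL (Fin 2) F)) →
      (q : Matrix (Fin 2) (Fin 2) F) = - (q' : Matrix (Fin 2) (Fin 2) F) → q ∈ (Q8 : Subgroup (GL (Fin 2) F)) := by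
    intro q' hq' he
    have : q = -1 * q' := by
      apply Units.ext
      rw [Units.val_mul, he]
      simp
    rw [this]
    exact Subgroup.mul_mem _ neg_one_mem_Q8 hq'
  rcases h with h | h | h | h | h | h | h | h
  · have : q = 1 := Units.ext (by rw [h, Units.val_one])
    rw [this]; exact Subgroup.one_mem _
  · exact hneg 1 (Subgroup.one_mem _) (by rw [h, Units.val_one])
  · exact mem_Q8_of_det_trace q (by rw [h]; exact det_A2) (by rw [h]; exact trace_A2)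
  · exact mem_Q8_of_det_trace q (by rw [h, Matrix.det_neg, det_A2]; simp) (by rw [h, Matrix.trace_neg, trace_A2, neg_zero])
  · exact mem_Q8_of_det_trace q (by rw [h]; exact det_B2 h3) (by rw [h]; exact trace_B2)
  · exact mem_Q8_of_det_trace q (by rw [h, Matrix.det_neg, det_B2 h3]; simp) (by rw [h, Matrix.trace_neg, trace_B2, neg_zero])
  · exact mem_Q8_of_det_trace q (by rw [h]; exact det_C2 h3) (by rw [h]; exact trace_C2)
  · exact mem_Q8_of_det_trace q (by rw [h, Matrix.det_neg, det_C2 h3]; simp) (by rw [h, Matrix.trace_neg, trace_C2, neg_zero])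


/-! ### the enumeration of `O2` -/

/-- the eight matrices of `O_2(3)`. -/
def IsO2Mat (M : Matrix (Fin 2) (Fin 2) F) : Prop :=
  M = 1 ∨ M = -1 ∨ M = J2 ∨ M = -J2 ∨ M = T2 ∨ M = -T2 ∨ M = S2 ∨ M = -S2

theorem isO2Mat_mul (M N : Matrix (Fin 2) (Fin 2) F) (hM : IsO2Mat M) (hN : IsO2Mat N) :
    IsO2Mat (M * N) := by
  unfold IsO2Mat at hM hN ⊢
  rcases hM with rfl | rfl | rfl | rfl | rfl | rfl | rfl | rfl <;>
  rcases hN with rfl | rfl | rfl | rfl | rfl | rfl | rfl | rfl <;>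
  simp [J2_mul_J2, J2_mul_T2, T2_mul_J2', T2_mul_T2', S2_mul_S2, T2_mul_S2, S2_mul_T2, S2_mul_J2, J2_mul_S2]

theorem isO2Mat_neg (M : Matrix (Fin 2) (Fin 2) F) (hM : IsO2Mat M) : IsO2Mat (-M) := by
  unfold IsO2Mat at hM ⊢
  rcases hM with rfl | rfl | rfl | rfl | rfl | rfl | rfl | rfl <;> simp

theorem isO2Mat_sq (M : Matrix (Fin 2) (Fin 2) F) (hM : IsO2Mat M) : M * M = 1 ∨ M * M = -1 := by
  unfold IsO2Mat at hM
  rcases hM with rfl | rfl | rfl | rfl | rfl | rfl | rfl | rfl <;>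
  simp [J2_mul_J2, T2_mul_T2', S2_mul_S2]

theorem J2_transpose : (J2 : Matrix (Fin 2) (Fin 2) F)ᵀ = -J2 := by
  unfold J2; ext i j; fin_cases i <;> fin_cases j <;> simp
theorem T2_transpose' : (T2 : Matrix (Fin 2) (Fin 2) F)ᵀ = T2 := by
  unfold T2; ext i j; fin_cases i <;> fin_cases j <;> simp
theorem S2_transpose : (S2 : Matrix (Fin 2) (Fin 2) F)ᵀ = S2 := by
  unfold S2; ext i j; fin_cases i <;> fin_cases j <;> simp

theorem transpose_mul_self_of_isO2Mat (M : Matrix (Fin 2) (Fin 2) F) (hM : IsO2Mat M) : Mᵀ * M = 1 := by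
  unfold IsO2Mat at hM
  rcases hM with rfl | rfl | rfl | rfl | rfl | rfl | rfl | rfl <;>
  simp [J2_transpose, T2_transpose', S2_transpose, J2_mul_J2, T2_mul_T2', S2_mul_S2]

/-- **enumeration of `O2`** for `|F| = 3`. -/
theorem mem_O2_iff' [Fintype F] (hq : Fintype.card F = 3) (d : GL (Fin 2) F) :
    d ∈ (O2 : Subgroup (GL (Fin 2) F)) ↔ IsO2Mat (d : Matrix (Fin 2) (Fin 2) F) := by
  rw [mem_O2_iff]
  refine ⟨?_, transpose_mul_self_of_isO2Mat _⟩
  intro h
  have h2 := two_ne_zero3 hq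
  set M : Matrix (Fin 2) (Fin 2) F := (d : Matrix (Fin 2) (Fin 2) F) with hMdef
  have hM := Matrix.eta_fin_two M
  have e1 : M 0 0 * M 0 0 + M 1 0 * M 1 0 = 1 := by
    have := congrFun (congrFun h 0) 0
    simpa [Matrix.mul_apply, Fin.sum_univ_two] using this
  have e2 : M 0 1 * M 0 1 + M 1 1 * M 1 1 = 1 := by
    have := congrFun (congrFun h 1) 1
    simpa [Matrix.mul_apply, Fin.sum_univ_two] using this
  have e3 : M 0 0 * M 0 1 + M 1 0 * M 1 1 = 0 := by
    have := congrFun (congrFun h 0) 1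
    simpa [Matrix.mul_apply, Fin.sum_univ_two] using this
  unfold IsO2Mat J2 T2 S2
  rw [hM]
  rcases eq_zero_or_one_or_neg_one hq (M 0 0) with hx | hx | hx <;>
  rcases eq_zero_or_one_or_neg_one hq (M 1 0) with hz | hz | hz <;>
  rw [hx, hz] at e1 e3 ⊢ <;>
  first
  | (exfalso; revert e1; norm_num; done)
  | (exfalso; have : (1 : F) = 0 := by linear_combination e1
     exact one_ne_zero this)
  | (rcases eq_zero_or_one_or_neg_one hq (M 0 1) with hy | hy | hy <;>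
     rcases eq_zero_or_one_or_neg_one hq (M 1 1) with hw | hw | hw <;>
     rw [hy, hw] at e2 e3 ⊢ <;>
     first
     | (exfalso; revert e2; norm_num; done)
     | (exfalso; revert e3; norm_num; done)
     | (exfalso; have : (1 : F) = 0 := by linear_combination e2
        exact one_ne_zero this)
     | (simp; done)
     | (left; ext i j; fin_cases i <;> fin_cases j <;> simp; done)
     | (right; left; ext i j; fin_cases i <;> fin_cases j <;> simp; done))

end Cfsg.Agent.Lib.Helper94.BHRSP.Sp4
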