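import Cfsg.Agent.Lib.Helper19.BhrspP1
import Cfsg.Agent.Lib.Helper21.BhrspP2
import Cfsg.Agent.Lib.Helper34.BhrspP3
import Cfsg.Agent.Lib.Helper17.BhrspP47
import Cfsg.Agent.Lib.Helper34.BhrspP5
import Cfsg.Agent.Lib.Helper86.BhrspP6
import Cfsg.Agent.Lib.Helper19.BhrspP8
import Cfsg.Agent.Lib.Helper19.BhrspANondeg
import Cfsg.Agent.Lib.Helper19.BhrspASympdim
import Cfsg.Agent.Lib.Helper21.BhrspADecomp
import Cfsg.Agent.Lib.Helper17.BhrspC3Two
import Cfsg.Agent.Lib.Helper83.BhrspEQ2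
import Cfsg.Agent.Lib.Helper83.BhrspEQ3

/-!
# Project BHRSP (helper94): hub importing all the landed phase-1 leaves, + [A-C3]
-/

set_option autoImplicit false

namespace Cfsg.Agent.Lib.Helper94.BHRSP

open Cfsg Cfsg.Geo
open scoped MatrixGroups Matrix Kronecker

variable {F : Type*} [Field F] [Fintype F] {m : ℕ}

/-- **[A-C3]** from [A-C3DIV] + [A-C3TWO]. -/
theorem dvd_of_selfAdjoint_field (r : ℕ) (hr : r.Prime)
    (K : Subalgebra F (Matrix (Fin m ⊕ Fin m) (Fin m ⊕ Fin m) F)) (hK : IsFieldSubalgebra r K)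
    (hsa : IsSelfAdjointFor (sympForm m F) K) (halt : ∀ k ∈ K, ∀ v, sympForm m F (k *ᵥ v) v = 0) : r ∣ m := by
  have h2m : r ∣ 2 * m := dvd_two_mul_of_isFieldSubalgebra r K hK
  rcases hr.eq_two_or_odd' with rfl | hodd
  · exact (even_of_selfAdjoint_degree_two K hK hsa halt).two_dvd
  · have hcop : Nat.Coprime r 2 := by
      rcases hodd with ⟨k, rfl⟩
      simp
    exact hcop.dvd_of_dvd_mul_left h2m

end Cfsg.Agent.Lib.Helper94.BHRSP
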