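import Mathlib
import Cfsg.Prelude.Def_GeometricClasses
import Cfsg.Agent.Lib.Helper94.BHRSP.Max

set_option autoImplicit false
set_option maxHeartbeats 1000000

namespace Cfsg.Agent.Lib.Helper94.BHRSP

open Cfsg Cfsg.Geo
open scoped MatrixGroups Matrix Kronecker

/-- arithmetic of a non-degenerate decomposition -/
theorem decomp_arith {F : Type*} [Field F] [Fintype F] {m t k : ℕ} (D : Fin t → Submodule F (Fin m ⊕ Fin m → F))
    (hD : IsNondegenerateMDecomposition (sympForm m F) k D) :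
    t * k = 2 * m ∧ Even k ∧ 0 < k ∧ 2 ≤ t := by
  refine ⟨mul_eq_of_isMDecomposition D hD.decomp, ?_, hD.decomp.pos, hD.decomp.two_le⟩
  have h0 : 0 < t := by have := hD.decomp.two_le; omega
  have := even_finrank_of_nondegenerateOn (D ⟨0, h0⟩) (hD.nondegenerate ⟨0, h0⟩)
  rwa [hD.decomp.finrank_eq] at this

/-- a non-degenerate non-zero subspace has dimension at least 2 -/
theorem two_le_finrank_of_nondegenerateOn {F : Type*} [Field F] [Fintype F] {m : ℕ}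
    (W : Submodule F (Fin m ⊕ Fin m → F)) (hW : W ≠ ⊥) (hnd : IsNondegenerateOn (sympForm m F) W) :
    2 ≤ Module.finrank F W ∧ Even (Module.finrank F W) := by
  have hev := even_finrank_of_nondegenerateOn W hnd
  refine ⟨?_, hev⟩
  have hpos : 0 < Module.finrank F W := by
    rw [Module.finrank_pos_iff_exists_ne_zero]
    obtain ⟨w, hw, hw0⟩ := (Submodule.ne_bot_iff W).mp hW
    exact ⟨⟨w, hw⟩, fun h => hw0 (congrArg Subtype.val h)⟩
  obtain ⟨c, hc⟩ := hev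
  omega

theorem row5790_of {F : Type*} [Field F] [Fintype F] (hA : AschR 2 F) (heven : ¬ Odd (Fintype.card F)) (h4 : 4 ≤ Fintype.card F) (H : Subgroup (Matrix.GeneralLinearGroup (Fin 2 ⊕ Fin 2) F)) (hH : Cfsg.Geo.IsMaximalIn (Cfsg.spGL 2 F) H) :
    (∃ W : Submodule F (Fin 2 ⊕ Fin 2 → F), W ≠ ⊥ ∧ Cfsg.Geo.IsTotallySingularFor (Cfsg.sympForm 2 F) W ∧ H = Cfsg.Geo.subspaceStabilizer W ⊓ Cfsg.spGL 2 F) ∨
    (∃ D : Fin 2 → Submodule F (Fin 2 ⊕ Fin 2 → F), Cfsg.Geo.IsNondegenerateMDecomposition (Cfsg.sympForm 2 F) 2 D ∧ H = Cfsg.Geo.decompositionStabilizer D ⊓ Cfsg.spGL 2 F) ∨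
    (∃ K : Subalgebra F (Matrix (Fin 2 ⊕ Fin 2) (Fin 2 ⊕ Fin 2) F), Cfsg.Geo.IsFieldSubalgebra 2 K ∧ Cfsg.Geo.IsSelfAdjointFor (Cfsg.sympForm 2 F) K ∧ (∀ k ∈ K, ∀ v : (Fin 2 ⊕ Fin 2 → F), (Cfsg.sympForm 2 F) (Matrix.mulVec k v) v = 0) ∧ H = Cfsg.Geo.subalgebraNormalizer K ⊓ Cfsg.spGL 2 F) ∨
    (∃ (F₀ : Subfield F) (r : ℕ) (P : Matrix.GeneralLinearGroup (Fin 2 ⊕ Fin 2) F) (ζ : F), r.Prime ∧ Fintype.card F = Nat.card F₀ ^ r ∧ ζ ≠ 0 ∧ Cfsg.Geo.IsFormRationalStructure (Cfsg.sympForm 2 F) F₀ ζ P ∧ H = Cfsg.Geo.subfieldSubgroup F₀ P ⊓ Cfsg.spGL 2 F) ∨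
    (∃ Q : (Fin 2 ⊕ Fin 2 → F) → F, Cfsg.Geo.IsNondegenerateQuadraticForm Q ∧ (∀ u v : (Fin 2 ⊕ Fin 2 → F), QuadraticMap.polar Q u v = (Cfsg.sympForm 2 F) u v) ∧ H = Cfsg.Geo.quadSimilarityGroup Q ⊓ Cfsg.spGL 2 F) ∨
    Cfsg.Geo.InSymplecticResidualClass H := by
  have hq : Fintype.card F ≠ 2 := by omega
  rcases maximal_eq_member' hA le_rfl (fun h => hq h.2) H hH with ⟨M, hM, rfl⟩ | hres
  · rcases hM with (h | h | h | h | h | h | h) | h | h | h | h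
    · exact Or.inl h
    · obtain ⟨W, hW, hnd, hlt, -⟩ := h
      have := (two_le_finrank_of_nondegenerateOn W hW hnd).1
      omega
    · obtain ⟨t, k, D, hD, hM⟩ := h
      obtain ⟨h1, h2, h3, h4'⟩ := decomp_arith D hD
      obtain ⟨c, hc⟩ := h2
      have hk2 : 2 ≤ k := by omega
      have ht2 : t ≤ 2 := by nlinarith
      have ht : t = 2 := by omega
      have hk : k = 2 := by subst ht; omega
      subst ht; subst hk
      exact Or.inr (Or.inl ⟨D, hD, hM⟩)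
    · obtain ⟨D, hodd, -⟩ := h
      exact absurd hodd heven
    · exact Or.inr (Or.inr (Or.inr (Or.inl h)))
    · obtain ⟨R, p, k, -, -, -, -, hpodd, hcard, -⟩ := h
      exact absurd (hcard ▸ hpodd) heven
    · obtain ⟨Q, -, hQ, hpol, hM⟩ := h
      exact Or.inr (Or.inr (Or.inr (Or.inr (Or.inl ⟨Q, hQ, hpol, hM⟩))))
    · obtain ⟨r, K, hr, hK, hsa, halt, hM⟩ := h
      have hdvd := dvd_of_selfAdjoint_field r hr K hK hsa halt
      have hr2 : r = 2 := (Nat.prime_dvd_prime_iff_eq hr Nat.prime_two).mp hdvd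
      subst hr2
      exact Or.inr (Or.inr (Or.inl ⟨K, hK, hsa, halt, hM⟩))
    · obtain ⟨K, hodd, -⟩ := h
      exact absurd hodd heven
    · obtain ⟨n₁, n₂, e, P, f₁, f₂, hodd, -⟩ := h
      exact absurd hodd heven
    · obtain ⟨k, t, e, P, f₁, hodd, -⟩ := h
      exact absurd hodd heven
  · exact Or.inr (Or.inr (Or.inr (Or.inr (Or.inr hres))))

end Cfsg.Agent.Lib.Helper94.BHRSP
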