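import Mathlib
import Cfsg.Prelude.Def_GeometricClasses
import Cfsg.Agent.Lib.Helper94.BHRSP.Sp4Model
import Cfsg.Agent.Lib.Helper94.BHRSP.Sp4Kit
import Cfsg.Agent.Lib.Helper86.BhrSp4NFI
import Cfsg.Agent.Lib.Helper98.BhrSp4NfBasis
import Cfsg.Agent.Lib.Helper98.BhrSp4NormCent
import Cfsg.Agent.Lib.Helper11.BhrSp4R0Irr
import Cfsg.Agent.Lib.Helper49.BhrSp4R0Minus
import Cfsg.Agent.Lib.Helper71.BhrSp4R0Str
import Cfsg.Agent.Lib.Helper66.BhrSp4R0Card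

/-!
# Project BHRSP (helper94), phase 2: assembly of [E-SP4-3B] — `N_Sp(K) ≤ N(2_-^(1+4))` for `|F| = 3`

[3B-R0-SIM] `Rc_le_similarityGroup`, [3B-NORM0] `normalizer_K0_le`, [E-SP4-3B] `unitary_normalizer_sp4_card_three`.
-/

set_option autoImplicit false

namespace Cfsg.Agent.Lib.Helper94.BHRSP.Sp4

open Cfsg Cfsg.Geo
open scoped MatrixGroups Matrix

variable {F : Type*} [Field F]

/-! ## [3B-R0-SIM] -/

theorem det_eq_one_of_mem_Q8 (q : GL (Fin 2) F) (hq : q ∈ (Q8 : Subgroup (GL (Fin 2) F))) :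
    (q : Matrix (Fin 2) (Fin 2) F).det = 1 := by
  have hle : (Q8 : Subgroup (GL (Fin 2) F)) ≤ (Matrix.GeneralLinearGroup.det (n := Fin 2) (R := F)).ker := by
    unfold Q8
    rw [Subgroup.closure_le]
    rintro x ⟨hx1, -⟩
    rw [SetLike.mem_coe, MonoidHom.mem_ker]
    apply Units.ext
    rw [Matrix.GeneralLinearGroup.val_det_apply, hx1, Units.val_one]
  have := hle hq
  rw [MonoidHom.mem_ker] at this
  have h2 := congrArg Units.val this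
  rwa [Matrix.GeneralLinearGroup.val_det_apply, Units.val_one] at h2

theorem tensGL_mem_spGL (q d : GL (Fin 2) F) (hq : (q : Matrix (Fin 2) (Fin 2) F).det = 1)
    (hd : d ∈ (O2 : Subgroup (GL (Fin 2) F))) : tensGL q d ∈ spGL 2 F := by
  rw [mem_spGL_iff]
  intro u v
  rw [tensGL_val, sympForm_tens _ _ 1 (by rw [one_smul]; exact hd), hq, one_mul, one_mul]

theorem R0_le_spGL : (R0 : Subgroup (GL (Fin 2 ⊕ Fin 2) F)) ≤ spGL 2 F := by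
  intro x hx
  obtain ⟨q, hq, d, hd, rfl⟩ := (mem_R0_iff x).mp hx
  exact tensGL_mem_spGL q d (det_eq_one_of_mem_Q8 q hq) hd

theorem Rc_le_spGL (P : GL (Fin 2 ⊕ Fin 2) F) (hP : P ∈ spGL 2 F) : Rc P ≤ spGL 2 F := by
  intro x hx
  obtain ⟨q, hq, d, hd, rfl⟩ := (mem_Rc_iff P x).mp hx
  exact (spGL 2 F).mul_mem ((spGL 2 F).mul_mem hP
    (tensGL_mem_spGL q d (det_eq_one_of_mem_Q8 q hq) hd)) ((spGL 2 F).inv_mem hP)

theorem spGL_le_similarityGroup : spGL 2 F ≤ similarityGroup (sympForm 2 F) := by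
  intro g hg
  refine ⟨1, fun u v => ?_⟩
  rw [Units.val_one, one_mul]
  exact (mem_spGL_iff g).mp hg u v

/-- **[3B-R0-SIM]** -/
theorem Rc_le_similarityGroup (P : GL (Fin 2 ⊕ Fin 2) F) (hP : P ∈ spGL 2 F) :
    Rc P ≤ similarityGroup (sympForm 2 F) :=
  (Rc_le_spGL P hP).trans spGL_le_similarityGroup

end Cfsg.Agent.Lib.Helper94.BHRSP.Sp4

namespace Cfsg.Agent.Lib.Helper94.BHRSP.Sp4

open Cfsg Cfsg.Geo
open scoped MatrixGroups Matrix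

variable {F : Type*} [Field F]

/-! ## [3B-NORM0] -/

theorem T2_mul_T2 : (T2 : Matrix (Fin 2) (Fin 2) F) * T2 = 1 := by
  unfold T2
  ext i j
  fin_cases i <;> fin_cases j <;> simp [Matrix.mul_apply, Fin.sum_univ_two]

theorem T2_transpose : (T2 : Matrix (Fin 2) (Fin 2) F)ᵀ = T2 := by
  unfold T2
  ext i j
  fin_cases i <;> fin_cases j <;> simp

theorem T2_mul_J2 : (T2 : Matrix (Fin 2) (Fin 2) F) * J2 = - (J2 * T2) := by
  unfold T2 J2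
  ext i j
  fin_cases i <;> fin_cases j <;> simp [Matrix.mul_apply, Fin.sum_univ_two]

/-- `T` as an element of `GL_2`. -/
def T2gl : GL (Fin 2) F := ⟨T2, T2, T2_mul_T2, T2_mul_T2⟩

theorem T2gl_val : ((T2gl : GL (Fin 2) F) : Matrix (Fin 2) (Fin 2) F) = T2 := rfl

theorem T2gl_mem_O2 : (T2gl : GL (Fin 2) F) ∈ (O2 : Subgroup (GL (Fin 2) F)) := by
  rw [mem_O2_iff, T2gl_val, T2_transpose, T2_mul_T2]

/-- `t₀ = 1 ⊗ T ∈ R₀`, `t₀ i₀ = - i₀ t₀`. -/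
def t0 : GL (Fin 2 ⊕ Fin 2) F := tensGL 1 T2gl

theorem t0_mem_R0 : (t0 : GL (Fin 2 ⊕ Fin 2) F) ∈ (R0 : Subgroup (GL (Fin 2 ⊕ Fin 2) F)) :=
  (mem_R0_iff _).mpr ⟨1, Subgroup.one_mem _, T2gl, T2gl_mem_O2, rfl⟩

theorem t0_mul_i0 : ((t0 : GL (Fin 2 ⊕ Fin 2) F) : Matrix (Fin 2 ⊕ Fin 2) (Fin 2 ⊕ Fin 2) F) * i0 =
    - (i0 * ((t0 : GL (Fin 2 ⊕ Fin 2) F) : Matrix (Fin 2 ⊕ Fin 2) (Fin 2 ⊕ Fin 2) F)) := by
  unfold t0 i0
  rw [tensGL_val, tens_mul, tens_mul, Units.val_one, Matrix.one_mul, T2gl_val, T2_mul_J2, tens_neg_right]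

theorem tensGL_inv (a b : GL (Fin 2) F) : (tensGL a b)⁻¹ = tensGL a⁻¹ b⁻¹ := by
  apply inv_eq_of_mul_eq_one_right
  rw [tensGL_mul, mul_inv_cancel, mul_inv_cancel, tensGL_one]

/-- a similitude of the dot product normalises `O_2`. -/
theorem conj_mem_O2 (b d : GL (Fin 2) F) (μ : F)
    (hb : (b : Matrix (Fin 2) (Fin 2) F)ᵀ * (b : Matrix (Fin 2) (Fin 2) F) = μ • 1)
    (hd : d ∈ (O2 : Subgroup (GL (Fin 2) F))) : b * d * b⁻¹ ∈ (O2 : Subgroup (GL (Fin 2) F)) := by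
  rw [mem_O2_iff] at hd ⊢
  set B : Matrix (Fin 2) (Fin 2) F := (b : Matrix (Fin 2) (Fin 2) F) with hB
  set Bi : Matrix (Fin 2) (Fin 2) F := ((b⁻¹ : GL (Fin 2) F) : Matrix (Fin 2) (Fin 2) F) with hBi
  set D : Matrix (Fin 2) (Fin 2) F := (d : Matrix (Fin 2) (Fin 2) F) with hD
  have h1 : B * Bi = 1 := by rw [hB, hBi, ← Units.val_mul, mul_inv_cancel, Units.val_one]
  rw [Units.val_mul, Units.val_mul, ← hB, ← hBi, ← hD]
  calc (B * D * Bi)ᵀ * (B * D * Bi) = Biᵀ * (Dᵀ * ((Bᵀ * B) * (D * Bi))) := by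
        simp only [Matrix.transpose_mul, Matrix.mul_assoc]
    _ = Biᵀ * ((Bᵀ * B) * ((Dᵀ * D) * Bi)) := by
        rw [hb]; simp only [Matrix.smul_mul, Matrix.mul_smul, Matrix.one_mul, Matrix.mul_assoc]
    _ = (B * Bi)ᵀ * (B * Bi) := by
        rw [hd, Matrix.one_mul]; simp only [Matrix.transpose_mul, Matrix.mul_assoc]
    _ = 1 := by rw [h1, Matrix.transpose_one, Matrix.one_mul]

theorem conj_tens_mem_R0 (a b : GL (Fin 2) F) (μ : F)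
    (hb : (b : Matrix (Fin 2) (Fin 2) F)ᵀ * (b : Matrix (Fin 2) (Fin 2) F) = μ • 1)
    (x : GL (Fin 2 ⊕ Fin 2) F) (hx : x ∈ (R0 : Subgroup (GL (Fin 2 ⊕ Fin 2) F))) :
    tensGL a b * x * (tensGL a b)⁻¹ ∈ (R0 : Subgroup (GL (Fin 2 ⊕ Fin 2) F)) := by
  obtain ⟨q, hq, d, hd, rfl⟩ := (mem_R0_iff x).mp hx
  rw [tensGL_inv, tensGL_mul, tensGL_mul]
  exact (mem_R0_iff _).mpr ⟨a * q * a⁻¹, conj_mem_Q8 a q hq, b * d * b⁻¹, conj_mem_O2 b d μ hb hd, rfl⟩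

section card3
variable [Fintype F]

/-- an element of `K₀` of square `-1` is `± i₀`. -/
theorem eq_i0_or_neg_of_sq (hq : Fintype.card F = 3) (k : Matrix (Fin 2 ⊕ Fin 2) (Fin 2 ⊕ Fin 2) F)
    (hk : k ∈ (K0 : Subalgebra F _)) (hkk : k * k = -1) : k = i0 ∨ k = - i0 := by
  obtain ⟨α, β, rfl⟩ := (mem_K0_iff k).mp hk
  have h2 := two_ne_zero3 hq
  have h3 := three_eq_zero hq
  have hsq : (α • (1 : Matrix (Fin 2 ⊕ Fin 2) (Fin 2 ⊕ Fin 2) F) + β • i0) * (α • 1 + β • i0) =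
      (α * α - β * β) • 1 + (2 * α * β) • i0 := by
    simp only [add_mul, mul_add, Matrix.smul_mul, Matrix.mul_smul, Matrix.one_mul, Matrix.mul_one, i0_mul_i0,
      smul_smul, sub_smul, add_smul, smul_neg]
    rw [show (2 * α * β) = α * β + β * α by ring, add_smul]
    abel
  rw [hsq] at hkk
  have e1 : α * α - β * β = -1 := by
    have := congrFun (congrFun hkk (Sum.inl 0)) (Sum.inl 0)
    simpa [i0, tens, J2] using this
  have e2 : 2 * (α * β) = 0 := by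
    have := congrFun (congrFun hkk (Sum.inl 0)) (Sum.inl 1)
    simp only [i0, tens, J2, Matrix.add_apply, Matrix.smul_apply, Matrix.neg_apply, Matrix.fromBlocks_apply₁₁,
      Matrix.one_apply_ne (show (Sum.inl 0 : Fin 2 ⊕ Fin 2) ≠ Sum.inl 1 by decide), smul_eq_mul, mul_zero,
      zero_add, neg_zero] at this
    simp at this
    rcases this with (h | h) | h
    · exact absurd h h2
    · rw [h]; ring
    · rw [h]; ring
  have hab : α * β = 0 := (mul_eq_zero.mp e2).resolve_left h2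
  rcases mul_eq_zero.mp hab with rfl | rfl
  · have h4 : (β - 1) * (β + 1) = 0 := by linear_combination -e1
    rcases mul_eq_zero.mp h4 with h5 | h5
    · left
      rw [sub_eq_zero.mp h5]; simp
    · right
      rw [eq_neg_of_add_eq_zero_left h5]; simp
  · exfalso
    rcases eq_zero_or_one_or_neg_one hq α with rfl | rfl | rfl
    · simp at e1
    · have : (2 : F) = 0 := by linear_combination e1
      exact h2 this
    · have : (2 : F) = 0 := by linear_combination e1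
      exact h2 this

end card3

end Cfsg.Agent.Lib.Helper94.BHRSP.Sp4

namespace Cfsg.Agent.Lib.Helper94.BHRSP.Sp4

open Cfsg Cfsg.Geo
open scoped MatrixGroups Matrix

variable {F : Type*} [Field F] [Fintype F]

omit [Fintype F] in
theorem i0_mem_K0 : (i0 : Matrix (Fin 2 ⊕ Fin 2) (Fin 2 ⊕ Fin 2) F) ∈ (K0 : Subalgebra F _) :=
  (mem_K0_iff _).mpr ⟨0, 1, by simp⟩

/-- every element of `N(K₀) ∩ Sp` conjugates `R₀` into itself. -/
theorem conj_mem_R0_of_normalizer (hq : Fintype.card F = 3) (g : GL (Fin 2 ⊕ Fin 2) F)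
    (hgK : g ∈ subalgebraNormalizer (K0 : Subalgebra F _)) (hgS : g ∈ spGL 2 F)
    (x : GL (Fin 2 ⊕ Fin 2) F) (hx : x ∈ (R0 : Subgroup (GL (Fin 2 ⊕ Fin 2) F))) :
    g * x * g⁻¹ ∈ (R0 : Subgroup (GL (Fin 2 ⊕ Fin 2) F)) := by
  set G : Matrix (Fin 2 ⊕ Fin 2) (Fin 2 ⊕ Fin 2) F := (g : Matrix (Fin 2 ⊕ Fin 2) (Fin 2 ⊕ Fin 2) F) with hG
  set Gi : Matrix (Fin 2 ⊕ Fin 2) (Fin 2 ⊕ Fin 2) F :=
    ((g⁻¹ : GL (Fin 2 ⊕ Fin 2) F) : Matrix (Fin 2 ⊕ Fin 2) (Fin 2 ⊕ Fin 2) F) with hGi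
  have hGiG : Gi * G = 1 := by rw [hG, hGi, ← Units.val_mul, inv_mul_cancel, Units.val_one]
  have hGGi : G * Gi = 1 := by rw [hG, hGi, ← Units.val_mul, mul_inv_cancel, Units.val_one]
  have hk : G * i0 * Gi ∈ (K0 : Subalgebra F _) := (hgK i0).mp i0_mem_K0
  have hkk : (G * i0 * Gi) * (G * i0 * Gi) = -1 := by
    calc (G * i0 * Gi) * (G * i0 * Gi) = G * i0 * (Gi * G) * i0 * Gi := by simp only [Matrix.mul_assoc]
      _ = G * (i0 * i0) * Gi := by rw [hGiG, Matrix.mul_one]; simp only [Matrix.mul_assoc]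
      _ = -1 := by rw [i0_mul_i0, Matrix.mul_neg, Matrix.mul_one, Matrix.neg_mul, hGGi]
  -- the commuting case
  have hcomm : ∀ g' : GL (Fin 2 ⊕ Fin 2) F, g' ∈ spGL 2 F →
      (g' : Matrix (Fin 2 ⊕ Fin 2) (Fin 2 ⊕ Fin 2) F) * i0 = i0 * (g' : Matrix (Fin 2 ⊕ Fin 2) (Fin 2 ⊕ Fin 2) F) →
      ∀ y ∈ (R0 : Subgroup (GL (Fin 2 ⊕ Fin 2) F)), g' * y * g'⁻¹ ∈ (R0 : Subgroup (GL (Fin 2 ⊕ Fin 2) F)) := by
    intro g' hg' hc y hy
    obtain ⟨a, b, μ, rfl, hb⟩ := Cfsg.Agent.Lib.Helper98.BhrSp4.centralizer_i0_eq_tens hq g' hg' hc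
    exact conj_tens_mem_R0 a b μ hb y hy
  rcases eq_i0_or_neg_of_sq hq _ hk hkk with h | h
  · have hc : G * i0 = i0 * G := by
      calc G * i0 = G * i0 * (Gi * G) := by rw [hGiG, Matrix.mul_one]
        _ = (G * i0 * Gi) * G := by simp only [Matrix.mul_assoc]
        _ = i0 * G := by rw [h]
    exact hcomm g hgS hc x hx
  · have hc : G * i0 = - (i0 * G) := by
      calc G * i0 = G * i0 * (Gi * G) := by rw [hGiG, Matrix.mul_one]
        _ = (G * i0 * Gi) * G := by simp only [Matrix.mul_assoc]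
        _ = - (i0 * G) := by rw [h, Matrix.neg_mul]
    have ht0S : (t0 : GL (Fin 2 ⊕ Fin 2) F) ∈ spGL 2 F := R0_le_spGL t0_mem_R0
    have hc' : ((g * t0 : GL (Fin 2 ⊕ Fin 2) F) : Matrix (Fin 2 ⊕ Fin 2) (Fin 2 ⊕ Fin 2) F) * i0 =
        i0 * ((g * t0 : GL (Fin 2 ⊕ Fin 2) F) : Matrix (Fin 2 ⊕ Fin 2) (Fin 2 ⊕ Fin 2) F) := by
      rw [Units.val_mul, Matrix.mul_assoc, t0_mul_i0, Matrix.mul_neg, ← Matrix.mul_assoc, ← hG, hc,
        Matrix.neg_mul, neg_neg, Matrix.mul_assoc]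
    have hy : t0⁻¹ * x * t0 ∈ (R0 : Subgroup (GL (Fin 2 ⊕ Fin 2) F)) :=
      Subgroup.mul_mem _ (Subgroup.mul_mem _ (Subgroup.inv_mem _ t0_mem_R0) hx) t0_mem_R0
    have := hcomm (g * t0) (Subgroup.mul_mem _ hgS ht0S) hc' _ hy
    have he : g * t0 * (t0⁻¹ * x * t0) * (g * t0)⁻¹ = g * x * g⁻¹ := by group
    rwa [he] at this

/-- **[3B-NORM0]** -/
theorem normalizer_K0_le (hq : Fintype.card F = 3) :
    subalgebraNormalizer (K0 : Subalgebra F _) ⊓ spGL 2 F ≤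
      subgroupNormalizer (R0 : Subgroup (GL (Fin 2 ⊕ Fin 2) F)) := by
  intro g hg
  unfold subgroupNormalizer
  rw [Subgroup.mem_set_normalizer_iff]
  intro n
  constructor
  · intro hn
    exact conj_mem_R0_of_normalizer hq g hg.1 hg.2 n hn
  · intro hn
    have hg' : g⁻¹ ∈ subalgebraNormalizer (K0 : Subalgebra F _) ⊓ spGL 2 F := Subgroup.inv_mem _ hg
    have := conj_mem_R0_of_normalizer hq g⁻¹ hg'.1 hg'.2 _ hn
    have he : g⁻¹ * (g * n * g⁻¹) * g⁻¹⁻¹ = n := by group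
    rw [he] at this
    exact this

/-- **[E-SP4-3B]** assembled from the phase-2 leaves. -/
theorem unitary_normalizer_sp4_card_three (hq : Fintype.card F = 3)
    (K : Subalgebra F (Matrix (Fin 2 ⊕ Fin 2) (Fin 2 ⊕ Fin 2) F)) (hK : IsFieldSubalgebra 2 K)
    (hac : IsAdjointClosedFor (sympForm 2 F) K) (hnsa : ¬ IsSelfAdjointFor (sympForm 2 F) K) :
    ∃ R : Subgroup (GL (Fin 2 ⊕ Fin 2) F), IsSymplecticTypeGroup 2 R ∧
      ActsAbsolutelyIrreducibly (matrixSet R) ∧ R ≤ similarityGroup (sympForm 2 F) ∧ Nat.card R = 32 ∧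
      Nat.card (Subgroup.center R) = 2 ∧ IsOfMinusType 2 R ∧
      subalgebraNormalizer K ⊓ spGL 2 F ≤ subgroupNormalizer R ⊓ spGL 2 F := by
  obtain ⟨i, hiK, hii, hadj, hKi⟩ := exists_i_of_field hq K hK hac hnsa
  obtain ⟨P, hP, hPi⟩ := Cfsg.Agent.Lib.Helper98.BhrSp4.exists_conj_i0 hq i hii hadj
  set Pm : Matrix (Fin 2 ⊕ Fin 2) (Fin 2 ⊕ Fin 2) F := (P : Matrix (Fin 2 ⊕ Fin 2) (Fin 2 ⊕ Fin 2) F) with hPm
  set Pi : Matrix (Fin 2 ⊕ Fin 2) (Fin 2 ⊕ Fin 2) F :=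
    ((P⁻¹ : GL (Fin 2 ⊕ Fin 2) F) : Matrix (Fin 2 ⊕ Fin 2) (Fin 2 ⊕ Fin 2) F) with hPi'
  have hPiP : Pi * Pm = 1 := by rw [hPm, hPi', ← Units.val_mul, inv_mul_cancel, Units.val_one]
  have hPPi : Pm * Pi = 1 := by rw [hPm, hPi', ← Units.val_mul, mul_inv_cancel, Units.val_one]
  -- `k ∈ K ↔ P⁻¹ k P ∈ K₀`
  have hKK0 : ∀ k : Matrix (Fin 2 ⊕ Fin 2) (Fin 2 ⊕ Fin 2) F, k ∈ K ↔ Pi * k * Pm ∈ (K0 : Subalgebra F _) := by
    intro k
    rw [hKi k, mem_K0_iff]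
    constructor
    · rintro ⟨α, β, rfl⟩
      refine ⟨α, β, ?_⟩
      rw [Matrix.mul_add, Matrix.add_mul, Matrix.mul_smul, Matrix.smul_mul, Matrix.mul_one, hPiP,
        Matrix.mul_smul, Matrix.smul_mul, hPi]
    · rintro ⟨α, β, h⟩
      refine ⟨α, β, ?_⟩
      have h2 : k = Pm * (Pi * k * Pm) * Pi := by
        calc k = (Pm * Pi) * k * (Pm * Pi) := by rw [hPPi, Matrix.one_mul, Matrix.mul_one]
          _ = Pm * (Pi * k * Pm) * Pi := by simp only [Matrix.mul_assoc]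
      rw [h2, h, ← hPi]
      rw [Matrix.mul_add, Matrix.add_mul, Matrix.mul_smul, Matrix.smul_mul, Matrix.mul_one, hPPi,
        Matrix.mul_smul, Matrix.smul_mul]
      congr 2
      calc Pm * (Pi * i * Pm) * Pi = (Pm * Pi) * i * (Pm * Pi) := by simp only [Matrix.mul_assoc]
        _ = i := by rw [hPPi, Matrix.one_mul, Matrix.mul_one]
  refine ⟨Rc P, Cfsg.Agent.Lib.Helper71.BhrSp4R0Str.isSymplecticTypeGroup_Rc hq P, Cfsg.Agent.Lib.Helper11.BhrSp4R0Irr.actsAbsolutelyIrreducibly_Rc hq P, Rc_le_similarityGroup P hP,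
    (Cfsg.Agent.Lib.Helper66.BhrSp4.card_Rc hq P).1, (Cfsg.Agent.Lib.Helper66.BhrSp4.card_Rc hq P).2, isOfMinusType_Rc hq P, ?_⟩
  intro g hg
  refine Subgroup.mem_inf.mpr ⟨?_, hg.2⟩
  -- `g' = P⁻¹ g P ∈ N(K₀) ∩ Sp`
  have hg'S : P⁻¹ * g * P ∈ spGL 2 F :=
    Subgroup.mul_mem _ (Subgroup.mul_mem _ (Subgroup.inv_mem _ hP) hg.2) hP
  have hg'K : P⁻¹ * g * P ∈ subalgebraNormalizer (K0 : Subalgebra F _) := by
    intro k
    have h1 : k ∈ (K0 : Subalgebra F _) ↔ Pm * k * Pi ∈ K := by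
      rw [hKK0]
      have : Pi * (Pm * k * Pi) * Pm = k := by
        calc Pi * (Pm * k * Pi) * Pm = (Pi * Pm) * k * (Pi * Pm) := by simp only [Matrix.mul_assoc]
          _ = k := by rw [hPiP, Matrix.one_mul, Matrix.mul_one]
      rw [this]
    rw [h1, hg.1 (Pm * k * Pi), hKK0]
    have : Pi * ((g : Matrix (Fin 2 ⊕ Fin 2) (Fin 2 ⊕ Fin 2) F) * (Pm * k * Pi) *
        ((g⁻¹ : GL (Fin 2 ⊕ Fin 2) F) : Matrix (Fin 2 ⊕ Fin 2) (Fin 2 ⊕ Fin 2) F)) * Pm =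
        ((P⁻¹ * g * P : GL (Fin 2 ⊕ Fin 2) F) : Matrix (Fin 2 ⊕ Fin 2) (Fin 2 ⊕ Fin 2) F) * k *
          (((P⁻¹ * g * P)⁻¹ : GL (Fin 2 ⊕ Fin 2) F) : Matrix (Fin 2 ⊕ Fin 2) (Fin 2 ⊕ Fin 2) F) := by
      have hinv : (P⁻¹ * g * P)⁻¹ = P⁻¹ * g⁻¹ * P := by group
      rw [hinv]
      simp only [Units.val_mul, ← hPm, ← hPi', Matrix.mul_assoc]
    rw [this]
  have hN := normalizer_K0_le hq ⟨hg'K, hg'S⟩
  unfold subgroupNormalizer at hN ⊢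
  rw [Subgroup.mem_set_normalizer_iff] at hN ⊢
  intro n
  have hmem : ∀ y : GL (Fin 2 ⊕ Fin 2) F, y ∈ ((Rc P : Subgroup _) : Set (GL (Fin 2 ⊕ Fin 2) F)) ↔
      P⁻¹ * y * P ∈ ((R0 : Subgroup (GL (Fin 2 ⊕ Fin 2) F)) : Set (GL (Fin 2 ⊕ Fin 2) F)) := by
    intro y
    rw [SetLike.mem_coe, SetLike.mem_coe]
    unfold Rc
    rw [Subgroup.mem_map]
    constructor
    · rintro ⟨z, hz, rfl⟩
      have : P⁻¹ * (MulAut.conj P).toMonoidHom z * P = z := by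
        change P⁻¹ * (P * z * P⁻¹) * P = z
        group
      rwa [this]
    · intro hy
      refine ⟨P⁻¹ * y * P, hy, ?_⟩
      change P * (P⁻¹ * y * P) * P⁻¹ = y
      group
  rw [hmem, hmem, hN (P⁻¹ * n * P)]
  have : P⁻¹ * g * P * (P⁻¹ * n * P) * (P⁻¹ * g * P)⁻¹ = P⁻¹ * (g * n * g⁻¹) * P := by group
  rw [this]

end Cfsg.Agent.Lib.Helper94.BHRSP.Sp4
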