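import Mathlib
import Cfsg.Prelude.Def_GeometricClasses
import Cfsg.Agent.Lib.Helper94.BHRSP.Rows
import Cfsg.Agent.Lib.Helper94.BHRSP.Sp4Asm
import Cfsg.Agent.Lib.Helper86.BhrSp4SingularPair

set_option autoImplicit false
set_option maxHeartbeats 1000000

namespace Cfsg.Agent.Lib.Helper94.BHRSP

open Cfsg Cfsg.Geo
open scoped MatrixGroups Matrix Kronecker

variable {F : Type*} [Field F] [Fintype F]

/-! ## Row S5787 (Sp4, q odd) -/

theorem row5787_of {F : Type*} [Field F] [Fintype F] (hA : AschR 2 F) (hodd : Odd (Fintype.card F)) (H : Subgroup (Matrix.GeneralLinearGroup (Fin 2 ⊕ Fin 2) F)) (hH : Cfsg.Geo.IsMaximalIn (Cfsg.spGL 2 F) H) :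
    (∃ W : Submodule F (Fin 2 ⊕ Fin 2 → F), W ≠ ⊥ ∧ Cfsg.Geo.IsTotallySingularFor (Cfsg.sympForm 2 F) W ∧ H = Cfsg.Geo.subspaceStabilizer W ⊓ Cfsg.spGL 2 F) ∨
    (∃ D : Fin 2 → Submodule F (Fin 2 ⊕ Fin 2 → F), Cfsg.Geo.IsNondegenerateMDecomposition (Cfsg.sympForm 2 F) 2 D ∧ H = Cfsg.Geo.decompositionStabilizer D ⊓ Cfsg.spGL 2 F) ∨
    (5 ≤ Fintype.card F ∧ ∃ D : Fin 2 → Submodule F (Fin 2 ⊕ Fin 2 → F), Cfsg.Geo.IsMDecomposition 2 D ∧ (∀ i, Cfsg.Geo.IsTotallySingularFor (Cfsg.sympForm 2 F) (D i)) ∧ H = Cfsg.Geo.decompositionStabilizer D ⊓ Cfsg.spGL 2 F) ∨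
    (∃ K : Subalgebra F (Matrix (Fin 2 ⊕ Fin 2) (Fin 2 ⊕ Fin 2) F), Cfsg.Geo.IsFieldSubalgebra 2 K ∧ Cfsg.Geo.IsSelfAdjointFor (Cfsg.sympForm 2 F) K ∧ (∀ k ∈ K, ∀ v : (Fin 2 ⊕ Fin 2 → F), (Cfsg.sympForm 2 F) (Matrix.mulVec k v) v = 0) ∧ H = Cfsg.Geo.subalgebraNormalizer K ⊓ Cfsg.spGL 2 F) ∨
    (5 ≤ Fintype.card F ∧ ∃ K : Subalgebra F (Matrix (Fin 2 ⊕ Fin 2) (Fin 2 ⊕ Fin 2) F), Cfsg.Geo.IsFieldSubalgebra 2 K ∧ Cfsg.Geo.IsAdjointClosedFor (Cfsg.sympForm 2 F) K ∧ ¬ Cfsg.Geo.IsSelfAdjointFor (Cfsg.sympForm 2 F) K ∧ H = Cfsg.Geo.subalgebraNormalizer K ⊓ Cfsg.spGL 2 F) ∨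
    (∃ (F₀ : Subfield F) (r : ℕ) (P : Matrix.GeneralLinearGroup (Fin 2 ⊕ Fin 2) F) (ζ : F), r.Prime ∧ Fintype.card F = Nat.card F₀ ^ r ∧ ζ ≠ 0 ∧ Cfsg.Geo.IsFormRationalStructure (Cfsg.sympForm 2 F) F₀ ζ P ∧ H = Cfsg.Geo.subfieldSubgroup F₀ P ⊓ Cfsg.spGL 2 F) ∨
    (∃ (p : ℕ) (R : Subgroup (Matrix.GeneralLinearGroup (Fin 2 ⊕ Fin 2) F)), p.Prime ∧ Fintype.card F = p ∧ Cfsg.Geo.IsSymplecticTypeGroup 2 R ∧ Cfsg.Geo.ActsAbsolutelyIrreducibly (Cfsg.Geo.matrixSet R) ∧ R ≤ Cfsg.Geo.similarityGroup (Cfsg.sympForm 2 F) ∧ Nat.card R = 32 ∧ Nat.card (Subgroup.center R) = 2 ∧ Cfsg.Geo.IsOfMinusType 2 R ∧ H = Cfsg.Geo.subgroupNormalizer R ⊓ Cfsg.spGL 2 F) ∨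
    Cfsg.Geo.InSymplecticResidualClass H := by
  have hq3 : 3 ≤ Fintype.card F := by
    have h2 : 2 ≤ Fintype.card F := Fintype.one_lt_card
    rcases hodd with ⟨c, hc⟩
    omega
  have hq : Fintype.card F ≠ 2 := by omega
  have hq35 : Fintype.card F = 3 ∨ 5 ≤ Fintype.card F := by
    rcases hodd with ⟨c, hc⟩
    omega
  rcases maximal_eq_member' hA le_rfl (fun h => hq h.2) H hH with ⟨M, hM, rfl⟩ | hres
  · rcases hM with (h | h | h | h | h | h | h) | h | h | h | h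
    · exact Or.inl h
    · obtain ⟨W, hW, hnd, hlt, -⟩ := h
      have := (two_le_finrank_of_nondegenerateOn W hW hnd).1
      omega
    · obtain ⟨t, k, D, hD, hM⟩ := h
      obtain ⟨h1, h2, h3, h4'⟩ := decomp_arith D hD
      obtain ⟨c, hc⟩ := h2
      have hk2 : 2 ≤ k := by omega
      have ht2 : t ≤ 2 := by nlinarith
      have ht : t = 2 := by omega
      have hk : k = 2 := by subst ht; omega
      subst ht; subst hk
      exact Or.inr (Or.inl ⟨D, hD, hM⟩)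
    · obtain ⟨D, -, hD, hts, hM⟩ := h
      rcases hq35 with h3 | h5
      · -- q = 3: not maximal unless equal to a (2,2)-decomposition stabiliser
        obtain ⟨D', hD', hle⟩ := singular_pair_sp4_card_three h3 D hD hts
        have hM' : InSymplecticClassR 2 F (decompositionStabilizer D' ⊓ spGL 2 F) :=
          Or.inl (Or.inr (Or.inr (Or.inl ⟨2, 2, D', hD', rfl⟩)))
        have := eq_of_le_member' le_rfl _ hH _ hM' (hM ▸ hle)
        exact Or.inr (Or.inl ⟨D', hD', this⟩)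
      · exact Or.inr (Or.inr (Or.inl ⟨h5, D, hD, hts, hM⟩))
    · exact Or.inr (Or.inr (Or.inr (Or.inr (Or.inr (Or.inl h)))))
    · obtain ⟨R, p, k, hst, habs, hsim, hp, hpodd, hcard, hR, hZ, hminus, hk, hM⟩ := h
      have hk2 : k = 2 := by
        have h4 : (2:ℕ) ^ k = 2 ^ 2 := by rw [hk]; norm_num
        exact Nat.pow_right_injective le_rfl h4
      subst hk2
      exact Or.inr (Or.inr (Or.inr (Or.inr (Or.inr (Or.inr (Or.inl
        ⟨p, R, hp, hcard, hst, habs, hsim, by rw [hR]; norm_num, hZ, hminus, hM⟩))))))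
    · obtain ⟨Q, heven, -⟩ := h
      exact absurd hodd heven
    · obtain ⟨r, K, hr, hK, hsa, halt, hM⟩ := h
      have hdvd := dvd_of_selfAdjoint_field r hr K hK hsa halt
      have hr2 : r = 2 := (Nat.prime_dvd_prime_iff_eq hr Nat.prime_two).mp hdvd
      subst hr2
      exact Or.inr (Or.inr (Or.inr (Or.inl ⟨K, hK, hsa, halt, hM⟩)))
    · obtain ⟨K, -, hK, hac, hnsa, hM⟩ := h
      rcases hq35 with h3 | h5
      · obtain ⟨R, hst, habs, hsim, hR, hZ, hminus, hle⟩ := Sp4.unitary_normalizer_sp4_card_three h3 K hK hac hnsa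
        have hM' : InSymplecticClassR 2 F (subgroupNormalizer R ⊓ spGL 2 F) :=
          Or.inl (Or.inr (Or.inr (Or.inr (Or.inr (Or.inr (Or.inl
            ⟨R, 3, 2, hst, habs, hsim, Nat.prime_three, by decide, h3, by rw [hR]; norm_num, hZ, hminus, by norm_num, rfl⟩))))))
        have := eq_of_le_member' le_rfl _ hH _ hM' (hM ▸ hle)
        exact Or.inr (Or.inr (Or.inr (Or.inr (Or.inr (Or.inr (Or.inl
          ⟨3, R, Nat.prime_three, h3, hst, habs, hsim, hR, hZ, hminus, this⟩))))))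
      · exact Or.inr (Or.inr (Or.inr (Or.inr (Or.inl ⟨h5, K, hK, hac, hnsa, hM⟩))))
    · obtain ⟨n₁, n₂, e, P, f₁, f₂, -, hn₂, hf₁, -, -, -⟩ := h
      exfalso
      have hcard : n₁ * n₂ = 2 * 2 := by
        have := Fintype.card_congr e
        rw [Max.card_index_eq, Fintype.card_prod, Fintype.card_fin, Fintype.card_fin] at this
        exact this.symm
      obtain ⟨c, hc⟩ := even_of_isSymplecticForm f₁ hf₁
      have hc1 : 1 ≤ c := by
        rcases Nat.eq_zero_or_pos c with h0 | h0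
        · subst h0; simp at hc; subst hc; simp at hcard
        · exact h0
      nlinarith
    · obtain ⟨k, t, e, P, f₁, -, -, ht, -, hf₁, -, -⟩ := h
      exfalso
      have hcard : k ^ t = 2 * 2 := by
        have := Fintype.card_congr e
        rw [Max.card_index_eq, Fintype.card_fun, Fintype.card_fin, Fintype.card_fin] at this
        exact this.symm
      obtain ⟨c, hc⟩ := even_of_isSymplecticForm f₁ hf₁
      have hk2 : 2 ≤ k := by
        rcases Nat.eq_zero_or_pos c with h0 | h0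
        · subst h0; simp at hc; subst hc
          rw [zero_pow (by omega)] at hcard; omega
        · omega
      have : 2 ^ 3 ≤ k ^ t := (Nat.pow_le_pow_left hk2 3).trans (Nat.pow_le_pow_right (by omega) ht)
      omega
  · exact Or.inr (Or.inr (Or.inr (Or.inr (Or.inr (Or.inr (Or.inr hres))))))

end Cfsg.Agent.Lib.Helper94.BHRSP
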