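import Mathlib
import Cfsg.Prelude.Def_GeometricClasses
import Cfsg.Agent.Lib.Helper94.BHRSP.Rows
import Cfsg.Agent.Lib.Helper44.BhrspSp8Plus5
import Cfsg.Agent.Lib.Helper49.Tw3Main

set_option autoImplicit false
set_option maxHeartbeats 1000000

namespace Cfsg.Agent.Lib.Helper94.BHRSP

open Cfsg Cfsg.Geo
open scoped MatrixGroups Matrix Kronecker

variable {F : Type*} [Field F] [Fintype F]

/-! ## Row S5823 (Sp8) -/

theorem row5823_of {F : Type*} [Field F] [Fintype F] (hA : AschR 4 F) (H : Subgroup (Matrix.GeneralLinearGroup (Fin 4 ⊕ Fin 4) F)) (hH : Cfsg.Geo.IsMaximalIn (Cfsg.spGL 4 F) H) :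
    (∃ W : Submodule F (Fin 4 ⊕ Fin 4 → F), W ≠ ⊥ ∧ Cfsg.Geo.IsTotallySingularFor (Cfsg.sympForm 4 F) W ∧ H = Cfsg.Geo.subspaceStabilizer W ⊓ Cfsg.spGL 4 F) ∨
    (∃ W : Submodule F (Fin 4 ⊕ Fin 4 → F), W ≠ ⊥ ∧ Cfsg.Geo.IsNondegenerateOn (Cfsg.sympForm 4 F) W ∧ Module.finrank F W < 4 ∧ H = Cfsg.Geo.subspaceStabilizer W ⊓ Cfsg.spGL 4 F) ∨
    (3 ≤ Fintype.card F ∧ ∃ D : Fin 4 → Submodule F (Fin 4 ⊕ Fin 4 → F), Cfsg.Geo.IsNondegenerateMDecomposition (Cfsg.sympForm 4 F) 2 D ∧ H = Cfsg.Geo.decompositionStabilizer D ⊓ Cfsg.spGL 4 F) ∨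
    (∃ D : Fin 2 → Submodule F (Fin 4 ⊕ Fin 4 → F), Cfsg.Geo.IsNondegenerateMDecomposition (Cfsg.sympForm 4 F) 4 D ∧ H = Cfsg.Geo.decompositionStabilizer D ⊓ Cfsg.spGL 4 F) ∨
    (Odd (Fintype.card F) ∧ ∃ D : Fin 2 → Submodule F (Fin 4 ⊕ Fin 4 → F), Cfsg.Geo.IsMDecomposition 4 D ∧ (∀ i, Cfsg.Geo.IsTotallySingularFor (Cfsg.sympForm 4 F) (D i)) ∧ H = Cfsg.Geo.decompositionStabilizer D ⊓ Cfsg.spGL 4 F) ∨
    (∃ K : Subalgebra F (Matrix (Fin 4 ⊕ Fin 4) (Fin 4 ⊕ Fin 4) F), Cfsg.Geo.IsFieldSubalgebra 2 K ∧ Cfsg.Geo.IsSelfAdjointFor (Cfsg.sympForm 4 F) K ∧ (∀ k ∈ K, ∀ v : (Fin 4 ⊕ Fin 4 → F), (Cfsg.sympForm 4 F) (Matrix.mulVec k v) v = 0) ∧ H = Cfsg.Geo.subalgebraNormalizer K ⊓ Cfsg.spGL 4 F) ∨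
    (Odd (Fintype.card F) ∧ ∃ K : Subalgebra F (Matrix (Fin 4 ⊕ Fin 4) (Fin 4 ⊕ Fin 4) F), Cfsg.Geo.IsFieldSubalgebra 2 K ∧ Cfsg.Geo.IsAdjointClosedFor (Cfsg.sympForm 4 F) K ∧ ¬ Cfsg.Geo.IsSelfAdjointFor (Cfsg.sympForm 4 F) K ∧ H = Cfsg.Geo.subalgebraNormalizer K ⊓ Cfsg.spGL 4 F) ∨
    (Odd (Fintype.card F) ∧ ∃ (e : (Fin 4 ⊕ Fin 4) ≃ Fin 2 × Fin 4) (P : Matrix.GeneralLinearGroup (Fin 4 ⊕ Fin 4) F) (f₁ : (Fin 2 → F) → (Fin 2 → F) → F) (f₂ : (Fin 4 → F) → (Fin 4 → F) → F), Cfsg.Geo.IsSymplecticForm f₁ ∧ Cfsg.Geo.IsSymmetricForm f₂ ∧ ¬ Cfsg.Geo.IsPlusTypeOn (fun v : Fin 4 → F => f₂ v v) ⊤ ∧ Cfsg.Geo.IsTensorFormStructure id (Cfsg.sympForm 4 F) f₁ f₂ e P ∧ H = Cfsg.Geo.tensorProductSubgroup 2 4 e P ⊓ Cfsg.spGL 4 F) ∨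
    (∃ (F₀ : Subfield F) (r : ℕ) (P : Matrix.GeneralLinearGroup (Fin 4 ⊕ Fin 4) F) (ζ : F), r.Prime ∧ Fintype.card F = Nat.card F₀ ^ r ∧ ζ ≠ 0 ∧ Cfsg.Geo.IsFormRationalStructure (Cfsg.sympForm 4 F) F₀ ζ P ∧ H = Cfsg.Geo.subfieldSubgroup F₀ P ⊓ Cfsg.spGL 4 F) ∨
    (∃ (p : ℕ) (R : Subgroup (Matrix.GeneralLinearGroup (Fin 4 ⊕ Fin 4) F)), p.Prime ∧ Odd p ∧ Fintype.card F = p ∧ Cfsg.Geo.IsSymplecticTypeGroup 2 R ∧ Cfsg.Geo.ActsAbsolutelyIrreducibly (Cfsg.Geo.matrixSet R) ∧ R ≤ Cfsg.Geo.similarityGroup (Cfsg.sympForm 4 F) ∧ Nat.card R = 128 ∧ Nat.card (Subgroup.center R) = 2 ∧ Cfsg.Geo.IsOfMinusType 3 R ∧ H = Cfsg.Geo.subgroupNormalizer R ⊓ Cfsg.spGL 4 F) ∨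
    (Odd (Fintype.card F) ∧ 5 ≤ Fintype.card F ∧ ∃ (e : (Fin 4 ⊕ Fin 4) ≃ (Fin 3 → Fin 2)) (P : Matrix.GeneralLinearGroup (Fin 4 ⊕ Fin 4) F) (f₁ : (Fin 2 → F) → (Fin 2 → F) → F), Cfsg.Geo.IsSymplecticForm f₁ ∧ Cfsg.Geo.IsTensorPowerFormStructure id (Cfsg.sympForm 4 F) f₁ e P ∧ H = Cfsg.Geo.tensorWreathSubgroup 2 3 e P ⊓ Cfsg.spGL 4 F) ∨
    (¬ Odd (Fintype.card F) ∧ ∃ Q : (Fin 4 ⊕ Fin 4 → F) → F, Cfsg.Geo.IsNondegenerateQuadraticForm Q ∧ (∀ u v : (Fin 4 ⊕ Fin 4 → F), QuadraticMap.polar Q u v = (Cfsg.sympForm 4 F) u v) ∧ H = Cfsg.Geo.quadSimilarityGroup Q ⊓ Cfsg.spGL 4 F) ∨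
    Cfsg.Geo.InSymplecticResidualClass H := by
  have hq2 : 2 ≤ Fintype.card F := Fintype.one_lt_card
  rcases maximal_eq_member' hA (by norm_num) (fun h => by omega) H hH with ⟨M, hM, rfl⟩ | hres
  · rcases hM with (h | h | h | h | h | h | h) | h | h | h | h
    · exact Or.inl h
    · exact Or.inr (Or.inl h)
    · obtain ⟨t, k, D, hD, hM⟩ := h
      obtain ⟨h1, h2, h3, h4'⟩ := decomp_arith D hD
      obtain ⟨c, hc⟩ := h2
      have hk2 : 2 ≤ k := by omega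
      have ht4 : t ≤ 4 := by nlinarith
      have hcases : (t = 4 ∧ k = 2) ∨ (t = 2 ∧ k = 4) := by
        interval_cases t <;> omega
      rcases hcases with ⟨ht, hk⟩ | ⟨ht, hk⟩
      · subst ht; subst hk
        by_cases hq : 3 ≤ Fintype.card F
        · exact Or.inr (Or.inr (Or.inl ⟨hq, D, hD, hM⟩))
        · have hq2' : Fintype.card F = 2 := by omega
          obtain ⟨Q, hQ, hpol, hle⟩ := decomp_planes_card_two hq2' D hD
          have heven : ¬ Odd (Fintype.card F) := by rw [hq2']; decide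
          have hM' : InSymplecticClassR 4 F (quadSimilarityGroup Q ⊓ spGL 4 F) :=
            Or.inl (Or.inr (Or.inr (Or.inr (Or.inr (Or.inr (Or.inr ⟨Q, heven, hQ, hpol, rfl⟩))))))
          have := eq_of_le_member' (by norm_num) _ hH _ hM' (hM ▸ hle)
          exact Or.inr (Or.inr (Or.inr (Or.inr (Or.inr (Or.inr (Or.inr (Or.inr (Or.inr (Or.inr (Or.inr (Or.inl
            ⟨heven, Q, hQ, hpol, this⟩)))))))))))
      · subst ht; subst hk
        exact Or.inr (Or.inr (Or.inr (Or.inl ⟨D, hD, hM⟩)))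
    · obtain ⟨D, hodd, hD, hts, hM⟩ := h
      exact Or.inr (Or.inr (Or.inr (Or.inr (Or.inl ⟨hodd, D, hD, hts, hM⟩))))
    · exact Or.inr (Or.inr (Or.inr (Or.inr (Or.inr (Or.inr (Or.inr (Or.inr (Or.inl h))))))))
    · obtain ⟨R, p, k, hst, habs, hsim, hp, hpodd, hcard, hR, hZ, hminus, hk, hM⟩ := h
      have hk3 : k = 3 := by
        have h4 : (2:ℕ) ^ k = 2 ^ 3 := by rw [hk]; norm_num
        exact Nat.pow_right_injective le_rfl h4
      subst hk3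
      exact Or.inr (Or.inr (Or.inr (Or.inr (Or.inr (Or.inr (Or.inr (Or.inr (Or.inr (Or.inl
        ⟨p, R, hp, hpodd, hcard, hst, habs, hsim, by rw [hR]; norm_num, hZ, hminus, hM⟩)))))))))
    · obtain ⟨Q, heven, hQ, hpol, hM⟩ := h
      exact Or.inr (Or.inr (Or.inr (Or.inr (Or.inr (Or.inr (Or.inr (Or.inr (Or.inr (Or.inr (Or.inr (Or.inl
        ⟨heven, Q, hQ, hpol, hM⟩)))))))))))
    · obtain ⟨r, K, hr, hK, hsa, halt, hM⟩ := h
      have hdvd := dvd_of_selfAdjoint_field r hr K hK hsa halt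
      have hr2 : r = 2 := by
        have : r ∣ 2 ^ 2 := by simpa using hdvd
        exact (Nat.prime_dvd_prime_iff_eq hr Nat.prime_two).mp (hr.dvd_of_dvd_pow this)
      subst hr2
      exact Or.inr (Or.inr (Or.inr (Or.inr (Or.inr (Or.inl ⟨K, hK, hsa, halt, hM⟩)))))
    · obtain ⟨K, hodd, hK, hac, hnsa, hM⟩ := h
      exact Or.inr (Or.inr (Or.inr (Or.inr (Or.inr (Or.inr (Or.inl ⟨hodd, K, hK, hac, hnsa, hM⟩))))))
    · obtain ⟨n₁, n₂, e, P, f₁, f₂, hodd, hn₂, hf₁, hf₂, hT, hM⟩ := h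
      have hcard : n₁ * n₂ = 2 * 4 := by
        have := Fintype.card_congr e
        rw [Max.card_index_eq, Fintype.card_prod, Fintype.card_fin, Fintype.card_fin] at this
        exact this.symm
      obtain ⟨c, hc⟩ := even_of_isSymplecticForm f₁ hf₁
      have hc1 : 1 ≤ c := by
        rcases Nat.eq_zero_or_pos c with h0 | h0
        · subst h0; simp at hc; subst hc; simp at hcard
        · exact h0
      have hn₁ : n₁ = 2 ∧ n₂ = 4 := by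
        have h8 : n₂ ≤ 8 := by nlinarith
        have : n₁ ≤ 2 := by nlinarith
        have hn1 : n₁ = 2 := by omega
        subst hn1
        exact ⟨rfl, by omega⟩
      obtain ⟨hn1, hn2⟩ := hn₁
      subst hn1; subst hn2
      by_cases hplus : IsPlusTypeOn (fun v : Fin 4 → F => f₂ v v) ⊤
      · obtain ⟨e', P', f₁', hf₁', hT', hle⟩ := tensor_plus_sp8 hodd e P f₁ f₂ hf₁ hf₂ hplus hT
        have hq35 : Fintype.card F = 3 ∨ 5 ≤ Fintype.card F := by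
          rcases hodd with ⟨c', hc'⟩
          omega
        rcases hq35 with h3 | h5
        · obtain ⟨R, hst, habs, hsim, hR, hZ, hminus, hle'⟩ := tensor_wreath_sp8_card_three h3 e' P' f₁' hf₁' hT'
          have hM' : InSymplecticClassR 4 F (subgroupNormalizer R ⊓ spGL 4 F) :=
            Or.inl (Or.inr (Or.inr (Or.inr (Or.inr (Or.inr (Or.inl
              ⟨R, 3, 3, hst, habs, hsim, Nat.prime_three, by decide, h3, by rw [hR]; norm_num, hZ, hminus, by norm_num, rfl⟩))))))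
          have := eq_of_le_member' (by norm_num) _ hH _ hM' (hM ▸ (hle.trans hle'))
          exact Or.inr (Or.inr (Or.inr (Or.inr (Or.inr (Or.inr (Or.inr (Or.inr (Or.inr (Or.inl
            ⟨3, R, Nat.prime_three, by decide, h3, hst, habs, hsim, hR, hZ, hminus, this⟩)))))))))
        · have hM' : InSymplecticClassR 4 F (tensorWreathSubgroup 2 3 e' P' ⊓ spGL 4 F) :=
            Or.inr (Or.inr (Or.inr (Or.inr ⟨2, 3, e', P', f₁', hodd, by decide, le_rfl, by omega, hf₁', hT', rfl⟩)))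
          have := eq_of_le_member' (by norm_num) _ hH _ hM' (hM ▸ hle)
          exact Or.inr (Or.inr (Or.inr (Or.inr (Or.inr (Or.inr (Or.inr (Or.inr (Or.inr (Or.inr (Or.inl
            ⟨hodd, h5, e', P', f₁', hf₁', hT', this⟩))))))))))
      · exact Or.inr (Or.inr (Or.inr (Or.inr (Or.inr (Or.inr (Or.inr (Or.inl
          ⟨hodd, e, P, f₁, f₂, hf₁, hf₂, hplus, hT, hM⟩)))))))
    · obtain ⟨k, t, e, P, f₁, hodd, htodd, ht, hne, hf₁, hT, hM⟩ := h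
      have hcard : k ^ t = 2 * 4 := by
        have := Fintype.card_congr e
        rw [Max.card_index_eq, Fintype.card_fun, Fintype.card_fin, Fintype.card_fin] at this
        exact this.symm
      obtain ⟨c, hc⟩ := even_of_isSymplecticForm f₁ hf₁
      have hk2 : 2 ≤ k := by
        rcases Nat.eq_zero_or_pos c with h0 | h0
        · subst h0; simp at hc; subst hc
          rw [zero_pow (by omega)] at hcard; omega
        · omega
      have hkt : k = 2 ∧ t = 3 := by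
        have h1 : 2 ^ t ≤ k ^ t := Nat.pow_le_pow_left hk2 t
        have ht3 : t ≤ 3 := by
          by_contra hcon
          have : 2 ^ 4 ≤ 2 ^ t := Nat.pow_le_pow_right (by omega) (by omega)
          omega
        have ht' : t = 3 := by omega
        subst ht'
        have : k ≤ 2 := by
          by_contra hcon
          have : 3 ^ 3 ≤ k ^ 3 := Nat.pow_le_pow_left (by omega) 3
          omega
        exact ⟨by omega, rfl⟩
      obtain ⟨hk, ht'⟩ := hkt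
      subst hk; subst ht'
      have h5 : 5 ≤ Fintype.card F := by
        have h3 : Fintype.card F ≠ 3 := fun h3 => hne ⟨h3, rfl⟩
        rcases hodd with ⟨c', hc'⟩
        omega
      exact Or.inr (Or.inr (Or.inr (Or.inr (Or.inr (Or.inr (Or.inr (Or.inr (Or.inr (Or.inr (Or.inl
        ⟨hodd, h5, e, P, f₁, hf₁, hT, hM⟩))))))))))
  · exact Or.inr (Or.inr (Or.inr (Or.inr (Or.inr (Or.inr (Or.inr (Or.inr (Or.inr (Or.inr (Or.inr (Or.inr hres)))))))))))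

end Cfsg.Agent.Lib.Helper94.BHRSP
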